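import Cfsg.Agent.Lib.KnownB.ThompsonF42.Eight.Data

/-! Checks. -/

set_option autoImplicit false
set_option maxRecDepth 100000
set_option Elab.async false

namespace CfsgLib.ThompsonF42.Eight

theorem row0 : rowOK 0 wit0 = true := by decide +kernel

theorem row1 : rowOK 1 wit1 = true := by decide +kernel

theorem row2 : rowOK 2 wit2 = true := by decide +kernel

theorem row3 : rowOK 3 wit3 = true := by decide +kernel

theorem row4 : rowOK 4 wit4 = true := by decide +kernel

theorem row5 : rowOK 5 wit5 = true := by decide +kernel

theorem row6 : rowOK 6 wit6 = true := by decide +kernel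

theorem row7 : rowOK 7 wit7 = true := by decide +kernel

theorem row8 : rowOK 8 wit8 = true := by decide +kernel

theorem row9 : rowOK 9 wit9 = true := by decide +kernel

theorem row10 : rowOK 10 wit10 = true := by decide +kernel

theorem row11 : rowOK 11 wit11 = true := by decide +kernel

theorem row12 : rowOK 12 wit12 = true := by decide +kernel

theorem row13 : rowOK 13 wit13 = true := by decide +kernel

theorem row14 : rowOK 14 wit14 = true := by decide +kernel

theorem row15 : rowOK 15 wit15 = true := by decide +kernel

end CfsgLib.ThompsonF42.Eight
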