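import Cfsg.Agent.Lib.KnownB.ThompsonF42.Eight.Data

/-! Checks. -/

set_option autoImplicit false
set_option maxRecDepth 100000
set_option Elab.async false

namespace CfsgLib.ThompsonF42.Eight

theorem row16 : rowOK 16 wit16 = true := by decide +kernel

theorem row17 : rowOK 17 wit17 = true := by decide +kernel

theorem row18 : rowOK 18 wit18 = true := by decide +kernel

theorem row19 : rowOK 19 wit19 = true := by decide +kernel

theorem row20 : rowOK 20 wit20 = true := by decide +kernel

theorem row21 : rowOK 21 wit21 = true := by decide +kernel

theorem row22 : rowOK 22 wit22 = true := by decide +kernel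

theorem row23 : rowOK 23 wit23 = true := by decide +kernel

theorem row24 : rowOK 24 wit24 = true := by decide +kernel

theorem row25 : rowOK 25 wit25 = true := by decide +kernel

theorem row26 : rowOK 26 wit26 = true := by decide +kernel

theorem row27 : rowOK 27 wit27 = true := by decide +kernel

theorem row28 : rowOK 28 wit28 = true := by decide +kernel

theorem row29 : rowOK 29 wit29 = true := by decide +kernel

theorem row30 : rowOK 30 wit30 = true := by decide +kernel

theorem row31 : rowOK 31 wit31 = true := by decide +kernel

end CfsgLib.ThompsonF42.Eight
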