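import Cfsg.Agent.Lib.KnownB.ThompsonF42.Eight.Data

/-! Checks. -/

set_option autoImplicit false
set_option maxRecDepth 100000
set_option Elab.async false

namespace CfsgLib.ThompsonF42.Eight

theorem row32 : rowOK 32 wit32 = true := by decide +kernel

theorem row33 : rowOK 33 wit33 = true := by decide +kernel

theorem row34 : rowOK 34 wit34 = true := by decide +kernel

theorem row35 : rowOK 35 wit35 = true := by decide +kernel

theorem row36 : rowOK 36 wit36 = true := by decide +kernel

theorem row37 : rowOK 37 wit37 = true := by decide +kernel

theorem row38 : rowOK 38 wit38 = true := by decide +kernel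

theorem row39 : rowOK 39 wit39 = true := by decide +kernel

theorem row40 : rowOK 40 wit40 = true := by decide +kernel

theorem row41 : rowOK 41 wit41 = true := by decide +kernel

theorem row42 : rowOK 42 wit42 = true := by decide +kernel

theorem row43 : rowOK 43 wit43 = true := by decide +kernel

theorem row44 : rowOK 44 wit44 = true := by decide +kernel

theorem row45 : rowOK 45 wit45 = true := by decide +kernel

theorem row46 : rowOK 46 wit46 = true := by decide +kernel

theorem row47 : rowOK 47 wit47 = true := by decide +kernel

end CfsgLib.ThompsonF42.Eight
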