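import Cfsg.Agent.Lib.KnownB.ThompsonF42.Eight.Data

/-! Checks. -/

set_option autoImplicit false
set_option maxRecDepth 100000
set_option Elab.async false

namespace CfsgLib.ThompsonF42.Eight

theorem row48 : rowOK 48 wit48 = true := by decide +kernel

theorem row49 : rowOK 49 wit49 = true := by decide +kernel

theorem row50 : rowOK 50 wit50 = true := by decide +kernel

theorem row51 : rowOK 51 wit51 = true := by decide +kernel

theorem row52 : rowOK 52 wit52 = true := by decide +kernel

theorem row53 : rowOK 53 wit53 = true := by decide +kernel

theorem row54 : rowOK 54 wit54 = true := by decide +kernel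

theorem row55 : rowOK 55 wit55 = true := by decide +kernel

theorem row56 : rowOK 56 wit56 = true := by decide +kernel

theorem row57 : rowOK 57 wit57 = true := by decide +kernel

theorem row58 : rowOK 58 wit58 = true := by decide +kernel

theorem row59 : rowOK 59 wit59 = true := by decide +kernel

theorem row60 : rowOK 60 wit60 = true := by decide +kernel

theorem row61 : rowOK 61 wit61 = true := by decide +kernel

theorem row62 : rowOK 62 wit62 = true := by decide +kernel

theorem row63 : rowOK 63 wit63 = true := by decide +kernel

end CfsgLib.ThompsonF42.Eight
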