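import Cfsg.Agent.Lib.KnownB.ThompsonF42.Large

/-!
Computable codes for the rank one subgroup of Suzuki type over eight elements, acting on four coordinates.
-/

set_option autoImplicit false
set_option maxRecDepth 100000

namespace CfsgLib.ThompsonF42.Eight

open Cfsg.Lie Matrix CfsgLib.Chev
open CfsgLib.Chev.F42 (xx W quad)

/-- the eight-element multiplication table, three bits per entry -/
def mulTab : ℕ := 2821848294356612419217921029917578219971947684264937521152

/-- product of codes -/
def mulN (a b : ℕ) : ℕ := Nat.land (Nat.shiftRight mulTab (3 * (8 * a + b))) 7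
/-- square of a code -/
def sqN (a : ℕ) : ℕ := mulN a a
/-- sum of codes -/
def addN (a b : ℕ) : ℕ := Nat.xor a b

/-- a vector of four codes -/
abbrev V4 : Type := ℕ × ℕ × ℕ × ℕ

/-- the parameters of a letter -/
def qN (n : ℕ) : ℕ × ℕ × ℕ × ℕ :=
  (sqN (n / 8 % 8), n / 8 % 8, addN (mulN (sqN (n / 8 % 8)) (n / 8 % 8)) (n % 8), sqN (sqN (n % 8)))

/-- an upper letter on a vector -/
def upN : ℕ × ℕ × ℕ × ℕ → V4 → V4
  | (a, b, c, d), (x, y, z, w) =>
    (addN (addN (addN x (mulN d w)) (mulN c z)) (mulN a (addN (addN y (mulN c w)) (mulN b z))),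
      addN (addN y (mulN c w)) (mulN b z), addN z (mulN a w), w)

/-- a lower letter on a vector -/
def loN : ℕ × ℕ × ℕ × ℕ → V4 → V4
  | (a, b, c, d), (x, y, z, w) =>
    (x, addN y (mulN a x), addN (addN z (mulN c x)) (mulN b y),
      addN (addN (addN w (mulN d x)) (mulN c y)) (mulN a (addN (addN z (mulN c x)) (mulN b y))))

/-- a letter on a vector -/
def actL (n : ℕ) (v : V4) : V4 := bif Nat.blt n 64 then upN (qN n) v else loN (qN n) v

/-- a word on a vector -/
def actW : List ℕ → V4 → V4
  | [], v => v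
  | n :: l, v => actL n (actW l v)

/-- equality of vectors -/
def eqV : V4 → V4 → Bool
  | (x, y, z, w), (x', y', z', w') => Nat.beq x x' && Nat.beq y y' && Nat.beq z z' && Nat.beq w w'

/-- a word acting trivially -/
def isOne (l : List ℕ) : Bool :=
  eqV (actW l (1, 0, 0, 0)) (1, 0, 0, 0) && eqV (actW l (0, 1, 0, 0)) (0, 1, 0, 0) &&
    eqV (actW l (0, 0, 1, 0)) (0, 0, 1, 0) && eqV (actW l (0, 0, 0, 1)) (0, 0, 0, 1)

/-- the inverse letter -/
def linv (n : ℕ) : ℕ :=
  n - n % 8 + addN (n % 8) (mulN (sqN (n / 8 % 8)) (n / 8 % 8))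

/-- the inverse word -/
def winv (l : List ℕ) : List ℕ := (l.map linv).reverse

/-- exchange of upper and lower letters -/
def flip (n : ℕ) : ℕ := bif Nat.blt n 64 then n + 64 else n - 64

/-- the chosen element of order five -/
def eps : List ℕ := [1, 65]

/-- its mirror -/
def eps' : List ℕ := eps.map flip

/-- the word to be checked for a witness -/
def witW (p q : ℕ) (k : List ℕ × List ℕ) : List ℕ :=
  winv [p + 64, q] ++ (k.1 ++ eps ++ winv k.1 ++ k.2 ++ eps' ++ winv k.2)

/-- a row of witnesses -/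
def rowOK (p : ℕ) (ks : List (List ℕ × List ℕ)) : Bool :=
  (List.range 64).all fun q =>
    let k := ks.getD q ([], [])
    k.1.all (fun n => Nat.blt n 128) && k.2.all (fun n => Nat.blt n 128) && isOne (witW p q k)

end CfsgLib.ThompsonF42.Eight
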