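import Cfsg.Agent.Lib.KnownB.ThompsonF42.Eight.Code

/-! Witnesses. -/

set_option autoImplicit false
set_option maxRecDepth 100000

namespace CfsgLib.ThompsonF42.Eight

/-- witnesses -/
def wit0 : List (List ℕ × List ℕ) :=
  [([], []), ([66, 14], [5, 94, 44]), ([78], [61, 79]), ([66], [22, 67]), ([74], [31, 75]),
    ([68], [34, 69]), ([76], [43, 77]), ([70], [52, 71]), ([67], [6, 115]), ([66], [14, 114]),
    ([71], [61, 102]), ([70], [48, 103]), ([67], [31, 114]), ([66], [16, 115]), ([69], [43, 84]),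
    ([68], [32, 85]), ([], [43, 66]), ([32], [8, 66]), ([32], [28, 67]), ([], [56, 67]),
    ([40], [19, 67]), ([8], [55, 67]), ([8], [38, 66]), ([40], [5, 66]), ([32], [26, 115]),
    ([8], [46, 114]), ([40], [11, 114]), ([], [62, 115]), ([32], [7, 114]), ([8], [49, 115]),
    ([40], [21, 115]), ([], [34, 114]), ([], [61, 68]), ([16], [44, 68]), ([8], [50, 68]),
    ([24], [35, 68]), ([16], [15, 69]), ([], [24, 69]), ([24], [4, 69]), ([8], [19, 69]),
    ([24], [6, 85]), ([8], [58, 84]), ([16], [13, 85]), ([], [52, 84]), ([16], [33, 84]),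
    ([], [26, 85]), ([24], [47, 84]), ([8], [17, 85]), ([], [31, 70]), ([16], [8, 70]),
    ([24], [55, 71]), ([8], [37, 71]), ([8], [20, 70]), ([24], [3, 70]), ([16], [58, 71]),
    ([], [40, 71]), ([16], [62, 103]), ([8], [28, 102]), ([16], [5, 102]), ([8], [33, 103]),
    ([24], [51, 103]), ([], [22, 102]), ([24], [15, 102]), ([], [44, 103])]

/-- witnesses -/
def wit1 : List (List ℕ × List ℕ) :=
  [([2, 78], [1, 78, 30]), ([], [9]), ([5], [1, 118, 7]), ([25], [24, 118]), ([2], [1, 74, 29]),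
    ([17], [123, 17]), ([3], [1, 100, 5]), ([33], [93, 33]), ([3], [1, 96, 33]), ([3], [98, 32]),
    ([6], [99, 57]), ([6], [110, 15]), ([2], [117, 25]), ([2], [122, 11]), ([4], [87, 41]),
    ([4], [92, 13]), ([10], [20, 76]), ([2], [49, 112]), ([2], [39, 113]), ([11], [36, 76]),
    ([], [54, 67]), ([4], [33, 100]), ([4], [43, 116]), ([], [39, 66]), ([], [47, 114]),
    ([4], [12, 75]), ([2], [2, 99, 37]), ([17], [97, 59]), ([], [48, 115]), ([4], [20, 74]),
    ([2], [123, 40]), ([10], [7, 118]), ([12], [38, 78]), ([4], [17, 80]), ([2], [2, 71, 44]),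
    ([], [51, 68]), ([4], [51, 81]), ([13], [54, 78]), ([], [18, 69]), ([2], [2, 66, 27]),
    ([], [59, 84]), ([6], [14, 77]), ([3], [1, 76, 59]), ([11], [4, 70, 63]), ([3], [1, 116, 11]),
    ([19], [68, 44]), ([], [16, 85]), ([6], [38, 76]), ([11], [102, 48]), ([6], [33, 96]),
    ([], [36, 71]), ([2], [17, 82]), ([2], [31, 98]), ([], [21, 70]), ([6], [21, 97]),
    ([15], [18, 74]), ([], [29, 102]), ([2], [10, 79]), ([], [32, 103]), ([2], [50, 78]),
    ([3], [19, 122]), ([13], [3, 98, 42]), ([3], [42, 123]), ([27], [9, 91])]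

/-- witnesses -/
def wit2 : List (List ℕ × List ℕ) :=
  [([14], [31, 98]), ([2], [2, 110]), ([9], [11]), ([5], [17, 104]), ([3], [1, 79, 31]),
    ([], [1, 98, 37]), ([10], [29, 75]), ([], [78, 52]), ([3], [48, 104]), ([4], [2, 124, 59]),
    ([7], [16, 113]), ([], [44, 96]), ([], [30, 97]), ([8], [26, 96]), ([1], [77, 43]),
    ([1], [1, 114, 17]), ([], [6, 77]), ([10], [3, 90, 38]), ([3], [1, 70, 30]), ([8], [49, 77]),
    ([1], [60, 112]), ([2], [5, 89]), ([], [43, 76]), ([1], [40, 113]), ([], [25, 119]),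
    ([2], [2, 90, 41]), ([8], [12, 118]), ([1], [3, 88, 22]), ([3], [1, 78, 39]), ([], [23, 87]),
    ([2], [126, 16]), ([1], [2, 74, 22]), ([3], [32, 107]), ([6], [9, 97]), ([2], [77, 3]),
    ([1], [103, 6]), ([5], [55, 123]), ([9], [16, 69]), ([1], [1, 82, 56]), ([3], [13, 127]),
    ([7], [26, 99]), ([], [115, 28]), ([], [5, 93, 50]), ([3], [19, 123]), ([2], [8, 88, 6]),
    ([8], [78, 20]), ([8], [101, 24]), ([7], [19, 83]), ([4], [82, 28]), ([2], [116, 59]),
    ([12], [4, 84]), ([1], [23, 98]), ([1], [24, 82]), ([2], [1, 123, 2]), ([], [112, 57]),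
    ([], [2, 90, 14]), ([12], [15, 68]), ([6], [22, 77]), ([10], [35, 81]), ([3], [82, 16]),
    ([1], [63, 78]), ([], [1, 101, 56]), ([1], [79]), ([6], [57, 76])]

/-- witnesses -/
def wit3 : List (List ℕ × List ℕ) :=
  [([2], [53, 93]), ([5], [5, 119]), ([17], [67, 17]), ([4], [7, 126]), ([], [1, 82, 50]),
    ([19], [15, 74]), ([], [86, 57]), ([11], [24, 74]), ([2], [13, 90]), ([6], [61, 102]),
    ([1], [70, 51]), ([], [46, 97]), ([], [27, 96]), ([3], [49, 67]), ([3], [32, 66]),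
    ([12], [78, 62]), ([1], [1, 76, 61]), ([7], [23, 121]), ([], [48, 77]), ([1], [71, 10]),
    ([], [28, 76]), ([2], [2, 66, 21]), ([9], [53, 67]), ([6], [16, 68]), ([1], [24, 105]),
    ([3], [14]), ([2], [1, 122, 32]), ([], [13, 118]), ([1], [5, 104]), ([13], [2, 74, 36]),
    ([], [2, 86]), ([26], [88, 14]), ([7], [18, 92]), ([4], [4, 108, 56]), ([4], [126, 59]),
    ([17], [121, 11]), ([2], [88, 39]), ([5], [1, 101, 51]), ([2], [1, 87, 57]), ([18], [49, 103]),
    ([8], [97, 3]), ([3], [35, 71]), ([1], [1, 104, 5]), ([4], [16, 105]), ([], [77, 58]),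
    ([5], [79, 18]), ([3], [18, 70]), ([], [76, 45]), ([7], [74, 32]), ([3], [23, 85]),
    ([13], [34, 81]), ([1], [13, 126]), ([], [1, 77, 38]), ([], [87, 17]), ([5], [1, 86, 31]),
    ([3], [60, 84]), ([1], [37, 123]), ([3], [52, 68]), ([], [79, 20]), ([2], [1, 79, 57]),
    ([3], [21, 69]), ([16], [1, 104, 51]), ([2], [84, 49]), ([14], [9, 86])]

/-- witnesses -/
def wit4 : List (List ℕ × List ℕ) :=
  [([10], [43, 116]), ([4], [4, 122]), ([12], [47, 77]), ([], [74, 22]), ([9], [13]),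
    ([3], [87, 61]), ([2], [1, 82, 57]), ([], [1, 88, 22]), ([5], [16, 120]), ([3], [4, 80]),
    ([1], [79, 61]), ([1], [1, 84, 33]), ([3], [32, 81]), ([], [62, 112]), ([], [42, 113]),
    ([8], [44, 112]), ([2], [10, 83]), ([4], [86, 29]), ([], [80, 25]), ([], [2, 77, 43]),
    ([14], [6, 102]), ([1], [35, 116]), ([1], [40, 100]), ([2], [6, 99]), ([14], [11, 70]),
    ([2], [34, 79]), ([1], [75]), ([2], [25, 78]), ([11], [38, 77]), ([5], [100, 32]),
    ([1], [27, 74]), ([], [1, 119, 24]), ([], [2, 79]), ([11], [100, 39]), ([], [61, 78]),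
    ([1], [56, 81]), ([5], [1, 66, 42]), ([8], [17, 79]), ([1], [30, 80]), ([2], [1, 102, 40]),
    ([], [21, 98]), ([4], [4, 108, 57]), ([2], [75, 37]), ([1], [3, 114, 58]), ([8], [14, 82]),
    ([1], [5, 86, 19]), ([3], [77, 57]), ([], [26, 82]), ([5], [28, 90]), ([2], [9, 113]),
    ([1], [1, 100, 24]), ([5], [15, 91]), ([4], [79, 5]), ([1], [115, 2]), ([7], [19, 93]),
    ([9], [32, 71]), ([3], [44, 117]), ([], [85, 46]), ([8], [119, 40]), ([3], [37, 101]),
    ([], [3, 82, 56]), ([2], [81, 15]), ([4], [8, 104, 2]), ([8], [74, 38])]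

/-- witnesses -/
def wit5 : List (List ℕ × List ℕ) :=
  [([4], [23, 111]), ([7], [7, 83]), ([], [98, 25]), ([13], [40, 76]), ([19], [2, 79, 31]),
    ([2], [67]), ([], [1, 100, 20]), ([17], [27, 97]), ([4], [15, 108]), ([2], [31, 114]),
    ([5], [48, 68]), ([14], [74, 26]), ([1], [66, 21]), ([], [58, 113]), ([], [45, 112]),
    ([5], [17, 69]), ([3], [76, 48]), ([3], [1, 70, 24]), ([2], [58]), ([5], [30, 102]),
    ([15], [52, 97]), ([1], [15, 90]), ([], [1, 79, 50]), ([], [99, 33]), ([1], [55, 93]),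
    ([5], [22, 70]), ([4], [102, 17]), ([10], [9, 98]), ([], [75, 38]), ([4], [1, 75, 25]),
    ([3], [1, 82, 11]), ([21], [23, 113]), ([1], [1, 78, 31]), ([3], [35, 89]), ([9], [23, 69]),
    ([2], [32, 70]), ([], [16, 79]), ([1], [67, 12]), ([], [46, 78]), ([4], [2, 106, 42]),
    ([1], [40, 121]), ([5], [10]), ([], [4, 98]), ([19], [16, 123]), ([2], [18, 103]),
    ([], [15, 82]), ([1], [7, 120]), ([15], [2, 101, 63]), ([3], [36, 110]), ([6], [2, 87, 59]),
    ([2], [39, 69]), ([23], [68, 61]), ([6], [90, 29]), ([33], [89, 13]), ([3], [15, 111]),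
    ([2], [5, 68]), ([8], [113, 5]), ([5], [53, 67]), ([2], [37, 85]), ([], [78, 63]),
    ([1], [1, 120, 7]), ([6], [32, 121]), ([], [79, 28]), ([3], [9, 94])]

/-- witnesses -/
def wit6 : List (List ℕ × List ℕ) :=
  [([12], [18, 119]), ([6], [6, 92]), ([4], [1, 100, 25]), ([], [1, 86, 19]), ([11], [46, 80]),
    ([], [76, 34]), ([9], [15]), ([3], [49, 88]), ([7], [32, 88]), ([2], [2, 113, 29]),
    ([], [60, 81]), ([8], [62, 80]), ([1], [75, 31]), ([1], [1, 102, 49]), ([5], [48, 97]),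
    ([], [26, 80]), ([7], [16, 95]), ([4], [9, 81]), ([3], [37, 111]), ([9], [48, 67]),
    ([1], [1, 118, 40]), ([7], [11, 109]), ([2], [85, 23]), ([1], [85, 4]), ([5], [17, 118]),
    ([], [103, 58]), ([3], [4, 95]), ([8], [76, 50]), ([8], [83, 56]), ([5], [27, 86]),
    ([], [3, 123, 38]), ([3], [24, 109]), ([2], [118, 58]), ([2], [1, 102, 12]), ([1], [17, 87]),
    ([4], [2, 117]), ([], [96, 41]), ([], [2, 87, 40]), ([10], [2, 114]), ([1], [31, 119]),
    ([10], [13, 66]), ([4], [52, 75]), ([1], [45, 76]), ([], [1, 83, 40]), ([1], [77]),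
    ([4], [41, 74]), ([11], [2, 77, 55]), ([7], [118, 48]), ([], [4, 75]), ([13], [118, 51]),
    ([1], [42, 96]), ([3], [1, 67, 29]), ([], [31, 74]), ([1], [24, 97]), ([7], [1, 68, 60]),
    ([8], [33, 75]), ([], [39, 116]), ([3], [88, 7]), ([5], [79, 25]), ([], [44, 100]),
    ([2], [25, 90]), ([1], [2, 111, 11]), ([8], [10, 100]), ([1], [2, 66, 22])]

/-- witnesses -/
def wit7 : List (List ℕ × List ℕ) :=
  [([6], [35, 123]), ([3], [3, 101]), ([], [1, 118, 38]), ([17], [18, 119]), ([], [116, 41]),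
    ([11], [28, 99]), ([17], [29, 87]), ([2], [5, 108]), ([2], [55, 110]), ([4], [43, 84]),
    ([], [63, 80]), ([7], [33, 71]), ([7], [16, 70]), ([10], [76, 44]), ([1], [68, 39]),
    ([], [28, 81]), ([5], [54, 122]), ([2], [2, 90, 40]), ([5], [11, 123]), ([3], [1, 83, 39]),
    ([4], [51, 71]), ([21], [82, 14]), ([2], [108, 47]), ([17], [33, 96]), ([8], [81, 7]),
    ([7], [23, 69]), ([], [75, 46]), ([3], [77, 54]), ([4], [55, 103]), ([], [74, 27]),
    ([1], [1, 88, 3]), ([2], [48, 89]), ([5], [78, 16]), ([5], [1, 66, 40]), ([], [1, 75, 20]),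
    ([], [117, 49]), ([3], [1, 88, 26]), ([2], [1, 82, 3]), ([11], [22, 113]), ([1], [11, 108]),
    ([1], [19, 111]), ([7], [34, 66]), ([5], [1, 100, 13]), ([21], [4, 95]), ([6], [114, 33]),
    ([12], [9, 116]), ([], [77, 50]), ([2], [1, 80, 17]), ([1], [1, 74, 43]), ([5], [53, 105]),
    ([], [58, 74]), ([3], [39, 80]), ([9], [35, 71]), ([4], [48, 66]), ([], [32, 75]),
    ([1], [69, 14]), ([1], [56, 89]), ([7], [12]), ([1], [3, 88]), ([11], [4, 93, 60]),
    ([], [6, 116]), ([25], [101, 53]), ([2], [1, 74, 47]), ([], [11, 100])]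

/-- witnesses -/
def wit8 : List (List ℕ × List ℕ) :=
  [([2], [70, 50]), ([2], [96, 33]), ([7], [71, 38]), ([7], [94, 17]), ([3], [67, 50]),
    ([3], [106, 33]), ([5], [69, 20]), ([5], [124, 49]), ([2, 68], [74, 4]), ([1], [8]),
    ([4], [118, 7]), ([24], [25, 118]), ([3], [74, 29]), ([16], [126, 33]), ([2], [100, 5]),
    ([32], [90, 49]), ([16], [75, 19]), ([3], [2, 98, 24]), ([5], [13, 75]), ([1], [46, 114]),
    ([11], [6, 118]), ([3], [1, 123, 40]), ([5], [21, 74]), ([1], [49, 115]), ([3], [38, 113]),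
    ([10], [37, 76]), ([11], [21, 76]), ([3], [48, 112]), ([5], [42, 116]), ([1], [38, 66]),
    ([1], [55, 67]), ([5], [32, 100]), ([18], [1, 68, 44]), ([2], [116, 11]), ([7], [39, 76]),
    ([1], [17, 85]), ([7], [15, 77]), ([1], [58, 84]), ([10], [5, 70, 63]), ([2], [76, 59]),
    ([5], [50, 81]), ([12], [55, 78]), ([1], [19, 69]), ([3], [3, 66, 27]), ([13], [39, 78]),
    ([5], [16, 80]), ([3], [2, 68, 4]), ([1], [50, 68]), ([26], [8, 91]), ([2], [43, 123]),
    ([12], [2, 98, 42]), ([2], [18, 122]), ([3], [51, 78]), ([1], [33, 103]), ([3], [11, 79]),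
    ([1], [28, 102]), ([7], [20, 97]), ([14], [19, 74]), ([3], [30, 98]), ([1], [20, 70]),
    ([1], [37, 71]), ([3], [16, 82]), ([10], [1, 102, 48]), ([7], [32, 96])]

/-- witnesses -/
def wit9 : List (List ℕ × List ℕ) :=
  [([3], [46, 96]), ([2], [45, 97]), ([4], [40, 112]), ([5], [46, 113]), ([6], [56, 80]),
    ([7], [58, 81]), ([2], [24, 96]), ([3], [28, 97]), ([], [8]), ([2, 76], [103, 49]),
    ([17], [29, 120]), ([4], [2, 123, 41]), ([17], [53, 121]), ([2], [89, 14]), ([33], [23, 89]),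
    ([2], [2, 82, 50]), ([1], [62, 115]), ([3], [27, 119]), ([], [46, 114]), ([2], [14, 118]),
    ([1], [34, 114]), ([13], [4, 75]), ([], [49, 115]), ([26], [1, 74, 5]), ([3], [4, 77]),
    ([1], [56, 67]), ([1], [43, 66]), ([2], [51, 77]), ([], [38, 66]), ([2], [31, 76]),
    ([3], [41, 76]), ([], [55, 67]), ([1], [26, 85]), ([2], [1, 93, 7]), ([], [17, 85]),
    ([19], [3, 76, 54]), ([], [58, 84]), ([3], [5, 118, 40]), ([1], [52, 84]), ([15], [6, 77]),
    ([5], [6, 79]), ([1], [24, 69]), ([5], [57, 78]), ([], [19, 69]), ([1], [61, 68]),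
    ([4], [21, 79]), ([], [50, 68]), ([4], [43, 78]), ([1], [44, 103]), ([4], [1, 111, 3]),
    ([1], [22, 102]), ([11], [2, 79]), ([], [33, 103]), ([17], [1, 91]), ([], [28, 102]),
    ([5], [3, 111, 20]), ([2], [67, 59]), ([1], [40, 71]), ([], [20, 70]), ([3], [90, 14]),
    ([7], [25, 74]), ([], [37, 71]), ([1], [31, 70]), ([6], [39, 75])]

/-- witnesses -/
def wit10 : List (List ℕ × List ℕ) :=
  [([6], [45, 127]), ([5], [53, 66]), ([], [104, 36]), ([], [1, 69, 30]), ([1], [21, 97]),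
    ([2], [104, 56]), ([7], [1, 79, 25]), ([3], [24, 115]), ([3], [30, 67]), ([13], [2, 82, 56]),
    ([4], [15, 93]), ([3], [10, 66]), ([], [97, 42]), ([2], [8, 86, 7]), ([1], [2, 126, 51]),
    ([25], [18, 75]), ([4], [85, 25]), ([], [12, 104]), ([26], [2, 126]), ([7], [80, 12]),
    ([1], [18, 119]), ([], [18, 105]), ([14], [18, 89]), ([8], [2, 123, 40]), ([2], [28, 124]),
    ([8], [51, 112]), ([4], [99, 21]), ([1], [38, 76]), ([], [4, 117, 47]), ([1], [14, 77]),
    ([6], [67, 55]), ([], [1, 90, 33]), ([2], [44, 120]), ([3], [13, 103]), ([18], [3, 79, 18]),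
    ([], [80, 59]), ([1], [5, 86, 30]), ([], [98, 17]), ([2], [5, 121]), ([1], [2, 120, 39]),
    ([2], [126, 25]), ([3], [60, 70]), ([6], [14, 105]), ([4], [1, 68, 21]), ([8], [71, 44]),
    ([2], [69, 17]), ([3], [9, 71]), ([7], [43, 77]), ([19], [21, 88]), ([], [17, 122]),
    ([16], [4, 96]), ([], [40, 123]), ([5], [5, 69]), ([2], [1, 87, 14]), ([4], [112, 15]),
    ([1], [1, 78, 59]), ([5], [46, 84]), ([], [5, 126]), ([9], [42, 71]), ([4], [21, 121]),
    ([1], [110, 15]), ([1], [99, 57]), ([], [42, 106]), ([8], [19, 82])]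

/-- witnesses -/
def wit11 : List (List ℕ × List ℕ) :=
  [([7], [11, 75]), ([5], [43, 77]), ([3], [117, 49]), ([1], [35, 97]), ([1], [16, 96]),
    ([6], [41, 71]), ([], [1, 108, 11]), ([], [76, 15]), ([4], [2, 126, 21]), ([2], [28, 66]),
    ([2], [11, 67]), ([13], [87, 60]), ([11], [1, 83, 54]), ([1], [66, 23]), ([20], [4, 117, 47]),
    ([], [1, 102, 39]), ([3], [32, 75]), ([14], [71, 46]), ([], [98, 24]), ([6], [25, 69]),
    ([3], [58, 74]), ([4], [26, 113]), ([], [3, 123, 40]), ([1], [4, 118]), ([], [50, 112]),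
    ([1], [23, 76]), ([23], [99, 10]), ([], [36, 113]), ([3], [6, 116]), ([4], [67, 52]),
    ([8], [90, 33]), ([1], [62, 77]), ([3], [116, 41]), ([1], [2, 121, 5]), ([1], [2, 66, 48]),
    ([5], [1, 76, 54]), ([2], [27, 103]), ([18], [8, 82]), ([2], [36, 102]), ([17], [24, 97]),
    ([], [1, 66, 27]), ([11], [6, 106]), ([2], [47, 70]), ([9], [27, 69]), ([6], [35, 114]),
    ([], [68, 4]), ([5], [1, 79, 25]), ([12], [3, 88]), ([1], [1, 69, 58]), ([16], [1, 78, 59]),
    ([8], [41, 123]), ([13], [13, 101]), ([18], [124, 21]), ([], [9, 79]), ([2], [42, 85]),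
    ([], [49, 78]), ([3], [74, 27]), ([], [28, 98]), ([2], [14, 68]), ([4], [9, 78]),
    ([9], [28, 70]), ([5], [108, 41]), ([], [18, 82]), ([1], [75, 61])]

/-- witnesses -/
def wit12 : List (List ℕ × List ℕ) :=
  [([2], [16, 124]), ([7], [23, 68]), ([3], [1, 75, 41]), ([2], [5, 125]), ([], [81, 23]),
    ([], [1, 71, 42]), ([1], [39, 113]), ([4], [120, 24]), ([2], [20, 93]), ([15], [2, 123, 38]),
    ([1], [2, 99, 37]), ([26], [18, 118]), ([2], [15, 92]), ([5], [12, 68]), ([], [93, 27]),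
    ([3], [1, 126, 20]), ([18], [42, 100]), ([], [33, 92]), ([2], [120, 4]), ([1], [1, 74, 29]),
    ([20], [25, 75]), ([], [56, 93]), ([3], [3, 112]), ([4], [1, 99, 10]), ([7], [58, 102]),
    ([], [7, 90]), ([], [21, 91]), ([8], [37, 100]), ([9], [60, 67]), ([3], [97, 21]),
    ([1], [122, 11]), ([1], [117, 25]), ([3], [126, 57]), ([], [14, 120]), ([10], [36, 105]),
    ([8], [4, 93, 56]), ([17], [15, 76]), ([3], [96, 14]), ([1], [31, 98]), ([], [36, 121]),
    ([2], [1, 78, 40]), ([8], [21, 80]), ([2], [69, 19]), ([], [1, 108, 49]), ([6], [117, 39]),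
    ([1], [50, 78]), ([], [2, 126, 24]), ([1], [10, 79]), ([4], [62, 88]), ([5], [15, 115]),
    ([2], [67, 13]), ([1], [2, 71, 44]), ([16], [59, 115]), ([], [96, 29]), ([1], [2, 66, 27]),
    ([], [116, 33]), ([4], [90, 41]), ([3], [78]), ([2], [38, 120]), ([3], [61, 79]),
    ([2], [10, 121]), ([6], [1, 70, 39]), ([8], [67, 62]), ([4], [71, 33])]

/-- witnesses -/
def wit13 : List (List ℕ × List ℕ) :=
  [([3], [13, 77]), ([7], [61, 79]), ([], [1, 126, 13]), ([], [78, 11]), ([2], [42, 66]),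
    ([1], [53, 113]), ([1], [32, 112]), ([2], [57, 67]), ([6], [2, 99, 16]), ([3], [30, 87]),
    ([19], [8, 98, 11]), ([], [1, 114, 51]), ([3], [17, 119]), ([11], [17, 105]), ([10], [6, 118]),
    ([1], [68, 35]), ([1], [1, 71, 28]), ([17], [1, 126, 17]), ([3], [98, 51]), ([], [17, 74]),
    ([8], [57, 93]), ([15], [15, 119]), ([17], [2, 99, 29]), ([], [9, 75]), ([5], [76, 45]),
    ([], [46, 116]), ([], [36, 100]), ([1], [77, 31]), ([4], [10, 70]), ([3], [22, 97]),
    ([9], [46, 66]), ([7], [126, 57]), ([5], [48, 77]), ([10], [67, 58]), ([], [5, 93, 56]),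
    ([1], [6, 82]), ([], [116, 40]), ([2], [41, 71]), ([5], [28, 76]), ([6], [44, 81]),
    ([], [20, 80]), ([1], [35, 78]), ([8], [108, 49]), ([1], [26, 79]), ([19], [6, 109]),
    ([], [54, 81]), ([5], [2, 86]), ([6], [69, 22]), ([5], [86, 57]), ([1], [2, 126, 56]),
    ([4], [54, 114]), ([18], [28, 115]), ([1], [3, 88, 35]), ([7], [1, 78, 18]), ([4], [45, 115]),
    ([16], [6, 67]), ([], [1, 68, 45]), ([13], [2, 124]), ([7], [1, 75, 41]), ([10], [121, 5]),
    ([3], [1, 120, 39]), ([9], [45, 71]), ([2], [53, 84]), ([], [70, 6])]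

/-- witnesses -/
def wit14 : List (List ℕ × List ℕ) :=
  [([4], [27, 109]), ([3], [35, 70]), ([1], [51, 81]), ([6], [88, 40]), ([5], [1, 77, 57]),
    ([2], [35, 126]), ([], [88, 18]), ([], [1, 67, 60]), ([3], [17, 103]), ([11], [4, 93, 50]),
    ([], [81, 30]), ([5], [1, 90, 38]), ([1], [2, 121, 13]), ([19], [10, 118]), ([2], [13, 123]),
    ([7], [14, 70]), ([6], [26, 104]), ([7], [11, 85]), ([1], [3, 88, 27]), ([], [86, 49]),
    ([4], [69, 15]), ([1], [2, 80, 19]), ([32], [29, 85]), ([], [112, 47]), ([6], [108, 57]),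
    ([2], [85, 7]), ([8], [69, 26]), ([6], [67, 49]), ([4], [50, 88]), ([5], [31, 75]),
    ([4], [12, 89]), ([2], [1, 66, 51]), ([17], [87, 59]), ([], [49, 110]), ([3], [3, 67]),
    ([6], [1, 117, 12]), ([2], [96, 13]), ([1], [1, 76, 47]), ([26], [3, 115]), ([], [24, 111]),
    ([3], [28, 114]), ([], [3, 108]), ([1], [92, 13]), ([1], [87, 41]), ([], [30, 94]),
    ([8], [27, 87]), ([9], [30, 69]), ([2], [51, 105]), ([2], [115, 57]), ([], [10, 88]),
    ([1], [43, 116]), ([], [54, 89]), ([12], [54, 121]), ([8], [2, 82, 51]), ([27], [35, 92]),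
    ([5], [112, 10]), ([4], [1, 74, 56]), ([8], [39, 96]), ([], [2, 99, 29]), ([1], [12, 75]),
    ([4], [71, 37]), ([], [1, 126, 17]), ([2], [87, 51]), ([1], [20, 74])]

/-- witnesses -/
def wit15 : List (List ℕ × List ℕ) :=
  [([5], [15, 79]), ([3], [31, 75]), ([1], [48, 80]), ([4], [25, 69]), ([], [1, 90, 15]),
    ([], [74, 13]), ([4], [60, 68]), ([1], [23, 81]), ([2], [4, 117, 32]), ([2], [114, 46]),
    ([12], [2, 82]), ([1], [70, 53]), ([18], [26, 112]), ([], [1, 84, 21]), ([3], [45, 117]),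
    ([11], [104, 63]), ([7], [98, 25]), ([1], [2, 99, 42]), ([2], [1, 114, 49]),
    ([23], [2, 90, 38]), ([6], [18, 84]), ([36], [46, 85]), ([1], [2, 110, 4]), ([3], [1, 74, 36]),
    ([], [1, 70, 63]), ([11], [3, 71, 31]), ([4], [23, 102]), ([], [66, 2]), ([3], [1, 77, 57]),
    ([10], [7, 120]), ([5], [1, 88, 51]), ([9], [63, 67]), ([1], [1, 67, 46]), ([18], [25, 78]),
    ([16], [58, 93]), ([], [9, 77]), ([5], [116, 21]), ([], [33, 76]), ([8], [25, 111]),
    ([11], [11, 83]), ([7], [78, 63]), ([], [21, 119]), ([9], [58, 68]), ([3], [90, 25]),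
    ([], [26, 87]), ([1], [79, 43]), ([6], [12, 66]), ([2], [9, 76]), ([3], [113, 39]),
    ([12], [69, 28]), ([7], [46, 78]), ([2], [62, 97]), ([], [3, 82, 51]), ([1], [2, 100]),
    ([], [86, 56]), ([4], [57, 67]), ([], [38, 96]), ([1], [53, 74]), ([7], [4, 98]),
    ([2], [71, 34]), ([8], [126, 17]), ([1], [44, 75]), ([27], [25, 113]), ([], [18, 97])]

/-- witnesses -/
def wit16 : List (List ℕ × List ℕ) :=
  [([], [21, 115]), ([2], [8, 104]), ([3], [1, 69, 60]), ([1], [15, 124]), ([], [11, 114]),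
    ([2], [22, 105]), ([9], [49, 66]), ([5], [37, 71]), ([2], [117, 47]), ([1], [20, 92]),
    ([19], [7, 114]), ([2], [94, 61]), ([], [5, 66]), ([1], [11, 93]), ([19], [26, 115]),
    ([], [19, 67]), ([2], [5, 69, 30]), ([2], [2, 79, 49]), ([5], [50, 68]), ([7], [35, 123]),
    ([8], [15, 86]), ([4], [5, 78, 31]), ([22], [1, 75, 15]), ([1], [118, 14]), ([6], [71, 3]),
    ([3], [3, 120, 38]), ([], [40]), ([2], [115, 51]), ([1], [1, 86, 59]), ([1], [88, 10]),
    ([11], [36, 81]), ([4], [44, 121]), ([10], [2, 111, 2]), ([5], [38, 66]), ([5], [55, 67]),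
    ([3], [50, 76]), ([], [2, 103]), ([2], [44, 123]), ([], [59, 102]), ([2], [21, 122]),
    ([4], [51, 93]), ([3], [3, 119]), ([17], [2, 102, 16]), ([], [6, 71]), ([], [53, 70]),
    ([17], [76, 43]), ([1], [1, 87, 56]), ([11], [40, 117]), ([], [48, 85]), ([1], [71, 18]),
    ([3], [124, 25]), ([5], [8]), ([1], [80, 21]), ([27], [1, 75, 37]), ([], [24, 84]),
    ([11], [83, 45]), ([3], [53, 96]), ([4], [1, 71, 43]), ([], [22, 68]), ([15], [51, 67]),
    ([1], [17, 121]), ([7], [114, 33]), ([7], [1, 77, 41]), ([], [50, 69])]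

/-- witnesses -/
def wit17 : List (List ℕ × List ℕ) :=
  [([6], [116, 4]), ([4], [53, 103]), ([5], [30, 81]), ([], [20, 96]), ([], [39, 97]),
    ([7], [1, 74, 57]), ([2], [88, 11]), ([2], [86, 58]), ([], [1, 84, 29]), ([6], [97, 12]),
    ([], [1, 98, 36]), ([4], [5, 70]), ([4], [49, 71]), ([8], [4, 66]), ([5], [1, 93, 57]),
    ([1], [3, 111, 20]), ([], [118]), ([14], [17, 118]), ([5], [2, 74, 27]), ([4], [85]),
    ([2], [30, 92]), ([], [14, 86]), ([11], [31, 92]), ([1], [57, 78]), ([], [58, 77]),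
    ([11], [7, 124]), ([6], [15, 105]), ([2], [6, 124]), ([29], [59, 110]), ([22], [7, 96]),
    ([], [19, 76]), ([1], [17, 98]), ([1], [76, 14]), ([1], [108, 10]), ([9], [7, 70]),
    ([7], [19, 89]), ([11], [26, 121]), ([], [122, 6]), ([], [89, 27]), ([5], [77, 51]),
    ([12], [51, 104]), ([6], [1, 67, 55]), ([5], [94, 26]), ([2], [117, 21]), ([4], [32, 67]),
    ([8], [52, 70]), ([2], [5, 94, 35]), ([1], [90, 30]), ([19], [1, 77, 45]), ([1], [2, 68, 34]),
    ([9], [69]), ([2], [92, 19]), ([5], [9, 100]), ([1], [1, 102, 46]), ([6], [2, 107]),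
    ([], [1, 69, 59]), ([], [80, 23]), ([], [84, 30]), ([1], [46, 113]), ([6], [51, 123]),
    ([5], [34, 75]), ([7], [29, 95]), ([8], [51, 69]), ([4], [30])]

/-- witnesses -/
def wit18 : List (List ℕ × List ℕ) :=
  [([7], [96, 5]), ([4], [17, 76]), ([6], [68, 39]), ([2], [1, 71, 16]), ([5], [20, 88]),
    ([3], [42, 122]), ([5], [46, 89]), ([3], [17, 123]), ([14], [58, 79]), ([9], [63, 114]),
    ([4], [2, 118]), ([], [67, 54]), ([3], [15, 127]), ([], [114, 7]), ([1], [66, 26]),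
    ([2], [2, 126, 21]), ([5], [7, 111]), ([], [1, 127]), ([2], [26, 113]), ([8], [8, 120]),
    ([1], [46, 79]), ([8], [34, 121]), ([], [41, 107]), ([19], [8, 92]), ([4], [22, 96]),
    ([11], [43, 110]), ([2], [67, 52]), ([1], [14, 99]), ([1], [3, 83]), ([], [32, 122]),
    ([2], [115, 46]), ([], [28, 123]), ([6], [19, 111]), ([3], [41, 105]), ([5], [1, 74, 46]),
    ([2], [1, 84, 17]), ([1], [4, 75, 36]), ([1], [2, 66, 14]), ([2], [124, 20]),
    ([], [9, 70, 31]), ([7], [10, 119]), ([1], [90, 19]), ([], [1, 84, 11]), ([], [82, 32]),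
    ([9], [52, 103]), ([3], [2, 90, 6]), ([3], [3, 79, 31]), ([4], [1, 96, 3]), ([], [74, 5]),
    ([5], [70, 25]), ([1], [97, 51]), ([], [1, 69, 55]), ([3], [84, 10]), ([3], [82, 33]),
    ([1], [3, 80, 31]), ([2], [25, 83]), ([1], [17, 112]), ([], [35, 105]), ([11], [1, 104, 13]),
    ([1], [113]), ([2], [9, 78]), ([], [59, 104]), ([2], [51, 79]), ([4], [108, 40])]

/-- witnesses -/
def wit19 : List (List ℕ × List ℕ) :=
  [([], [121, 2]), ([2], [13, 80]), ([], [97, 5]), ([1], [13, 125]), ([2], [45, 81]),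
    ([6], [1, 104, 63]), ([9], [32, 67]), ([3], [31, 74]), ([1], [30, 93]), ([3], [39, 116]),
    ([2], [66, 11]), ([21], [102, 42]), ([1], [6, 92]), ([6], [26, 112]), ([4], [42, 107]),
    ([17], [26, 98]), ([6], [75, 37]), ([4], [100, 11]), ([], [9, 120]), ([3], [96, 41]),
    ([], [35, 121]), ([2], [82, 21]), ([7], [46, 79]), ([4], [3, 67, 54]), ([1], [1, 71, 58]),
    ([1], [75, 7]), ([], [69, 16]), ([19], [51, 88]), ([8], [33, 122]), ([14], [102, 40]),
    ([3], [1, 83, 40]), ([], [83, 11]), ([2], [67, 32]), ([], [63, 93]), ([4], [56, 104]),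
    ([12], [36, 117]), ([13], [28, 109]), ([], [38, 92]), ([4], [32, 105]), ([7], [2, 66, 14]),
    ([1], [98, 47]), ([2], [83, 44]), ([1], [1, 111, 6]), ([3], [103, 58]), ([], [18, 91]),
    ([9], [53, 103]), ([10], [3, 126, 24]), ([], [90]), ([5], [20, 105]), ([2], [40, 101]),
    ([2], [32, 117]), ([1], [2, 87, 58]), ([], [2, 66, 20]), ([], [2, 112, 49]), ([1], [108, 48]),
    ([3], [1, 86, 19]), ([1], [3, 121]), ([3], [26, 80]), ([2], [8, 74]), ([13], [11, 89]),
    ([], [93, 26]), ([6], [1, 94, 25]), ([1], [42, 120]), ([5], [108, 56])]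

/-- witnesses -/
def wit20 : List (List ℕ × List ℕ) :=
  [([3], [108]), ([], [31, 114]), ([1], [47, 104]), ([2], [96, 40]), ([8], [46, 96]),
    ([], [6, 115]), ([1], [48, 105]), ([10], [29, 69]), ([25], [115]), ([1], [1, 112, 51]),
    ([1], [1, 69, 54]), ([2], [76, 46]), ([], [67]), ([4], [49, 114]), ([16], [84, 31]),
    ([], [21, 66]), ([7], [3, 71, 37]), ([3], [71, 32]), ([1], [1, 120, 14]), ([1], [116, 47]),
    ([5], [39, 127]), ([8], [27, 119]), ([3], [101, 13]), ([2], [15, 75]), ([3], [53, 89]),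
    ([], [58]), ([2], [34, 100]), ([1], [1, 100, 12]), ([6], [2, 110, 5]), ([24], [32, 92]),
    ([10], [19, 102]), ([15], [53, 121]), ([], [18, 103]), ([8], [5, 118, 40]), ([], [42, 102]),
    ([5], [9, 70, 19]), ([1], [51, 122]), ([16], [9, 118]), ([1], [14, 123]), ([4], [13, 70]),
    ([2], [18, 80]), ([], [22, 71]), ([1], [32, 126]), ([6], [77, 56]), ([5], [124, 15]),
    ([1], [12, 106]), ([], [32, 70]), ([7], [24, 109]), ([6], [28, 75]), ([4], [10, 69]),
    ([], [15, 84]), ([7], [15, 89]), ([], [37, 85]), ([5], [119, 14]), ([5], [87, 28]),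
    ([9], [5, 69]), ([], [5, 68]), ([3], [89, 4]), ([5], [25, 104]), ([4], [8, 85]),
    ([35], [30, 85]), ([], [39, 69]), ([5], [105]), ([2], [1, 80, 19])]

/-- witnesses -/
def wit21 : List (List ℕ × List ℕ) :=
  [([8], [30, 114]), ([3], [61]), ([], [29, 97]), ([5], [38, 111]), ([1], [108, 32]),
    ([], [47, 96]), ([2], [23, 79]), ([4], [19, 90]), ([], [84, 28]), ([2], [8, 82]),
    ([], [2, 98, 37]), ([19], [48, 111]), ([4], [51, 92]), ([8], [1, 67]), ([1], [67, 47]),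
    ([5], [7, 95]), ([10], [1, 75, 24]), ([], [20, 87]), ([28], [1, 88, 51]), ([21], [1, 66, 38]),
    ([], [26, 119]), ([1], [54, 74]), ([3], [18, 66]), ([5], [12, 89]), ([2], [3, 111, 3]),
    ([3], [1, 115]), ([10], [8, 89]), ([], [40, 76]), ([5], [69, 15]), ([], [5, 77]),
    ([1], [1, 100]), ([12], [2, 112, 11]), ([], [4, 118, 40]), ([2], [123, 41]), ([3], [2, 68]),
    ([], [79, 52]), ([5], [103, 52]), ([1], [114, 59]), ([9], [3, 70]), ([3], [32, 69]),
    ([1], [20, 81]), ([4], [78, 41]), ([5], [88, 6]), ([3], [34, 85]), ([2], [61, 113]),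
    ([1], [51, 80]), ([7], [1, 120, 15]), ([2], [42, 112]), ([11], [38, 88]), ([5], [71, 37]),
    ([3], [17, 71]), ([8], [14, 84]), ([7], [2, 83, 54]), ([], [1, 87, 27]), ([2], [1, 102, 43]),
    ([2], [89, 19]), ([4], [54, 121]), ([8], [4, 68]), ([2], [1, 75, 39]), ([1], [98, 20]),
    ([1], [112, 11]), ([14], [63, 105]), ([], [1, 90, 14]), ([], [1, 74, 12])]

/-- witnesses -/
def wit22 : List (List ℕ × List ℕ) :=
  [([8], [103, 3]), ([3], [10, 113]), ([3], [25, 112]), ([7], [10, 82]), ([1], [71, 47]),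
    ([1], [1, 78, 26]), ([5], [41, 117]), ([2], [122, 33]), ([5], [27, 75]), ([9], [35, 115]),
    ([27], [53, 93]), ([], [2, 67, 55]), ([2], [1, 71, 43]), ([], [83, 48]), ([11], [1, 79, 56]),
    ([1], [106, 59]), ([4], [2, 104]), ([8], [62, 120]), ([], [47, 127]), ([3], [1, 74, 17]),
    ([2], [11, 90]), ([], [1, 107]), ([1], [39, 75]), ([2], [27, 91]), ([8], [76, 6]),
    ([1], [12, 100]), ([1], [1, 116]), ([12], [27, 112]), ([], [15, 122]), ([2], [41, 92]),
    ([], [48, 123]), ([10], [60, 71]), ([1], [4, 93, 57]), ([], [1, 70, 18]), ([7], [63, 113]),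
    ([3], [9, 83]), ([2], [102, 37]), ([6], [8, 125]), ([1], [121, 12]), ([5], [2, 99, 43]),
    ([3], [33, 79]), ([2], [44, 121]), ([3], [26, 78]), ([1], [27, 81]), ([6], [3, 92]),
    ([10], [22]), ([], [1, 86, 5]), ([], [110, 48]), ([4], [34, 123]), ([], [76, 60]),
    ([], [84, 18]), ([5], [37, 81]), ([3], [1, 75, 23]), ([6], [8, 66, 36]), ([5], [1, 80]),
    ([8], [99, 21]), ([10], [63, 66]), ([1], [1, 111, 62]), ([], [12, 105]), ([7], [1, 76, 62]),
    ([15], [2, 80, 30]), ([2], [66, 39]), ([], [22, 104]), ([2], [1, 68, 20])]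

/-- witnesses -/
def wit23 : List (List ℕ × List ℕ) :=
  [([2], [123]), ([], [81, 60]), ([1], [44, 105]), ([], [68, 21]), ([13], [11, 115]),
    ([4], [38, 96]), ([1], [55, 104]), ([11], [3, 120, 40]), ([1], [94, 29]), ([19], [75, 23]),
    ([2], [43, 126]), ([1], [1, 83, 55]), ([8], [123, 50]), ([2], [2, 106]), ([5], [51, 114]),
    ([29], [1, 78, 31]), ([], [63, 120]), ([1], [1, 111, 15]), ([4], [21, 119]),
    ([2], [1, 98, 16]), ([3], [1, 94, 34]), ([2], [1, 67, 17]), ([], [20, 121]), ([4], [26, 87]),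
    ([3], [62, 121]), ([], [1, 76, 6]), ([16], [2, 98, 36]), ([4], [9, 77]), ([], [66, 6]),
    ([4], [33, 76]), ([3], [19, 120]), ([1], [104, 11]), ([8], [70, 18]), ([1], [20, 123]),
    ([4], [1, 70, 63]), ([], [14, 93]), ([3], [12, 91]), ([10], [4, 110]), ([16], [96, 3]),
    ([], [17, 92]), ([7], [3, 90, 14]), ([], [30, 125]), ([], [10, 124]), ([1], [39, 107]),
    ([1], [10, 127]), ([2], [2, 79, 30]), ([2], [90, 7]), ([8], [86, 5]), ([3], [120, 13]),
    ([4], [1, 84, 21]), ([2], [84, 56]), ([1], [117, 13]), ([9], [6, 69]), ([1], [89, 40]),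
    ([], [1, 99, 21]), ([], [1, 110, 42]), ([5], [10, 85]), ([34], [8, 114]), ([4], [74, 13]),
    ([], [93, 23]), ([6], [46, 114]), ([2], [2, 110, 29]), ([3], [82, 7]), ([3], [1, 123, 11])]

/-- witnesses -/
def wit24 : List (List ℕ × List ℕ) :=
  [([13], [52, 81]), ([], [20, 93]), ([3], [1, 86, 4]), ([1], [86, 28]), ([2], [8, 91]),
    ([], [15, 92]), ([4], [6, 74]), ([2], [27, 90]), ([], [16, 124]), ([7], [111, 20]),
    ([12], [1, 76, 55]), ([], [5, 125]), ([2], [63, 92]), ([4], [43, 117]), ([4], [34, 101]),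
    ([15], [2, 111, 3]), ([3], [25, 104]), ([1], [44, 122]), ([11], [117, 33]), ([1], [23, 123]),
    ([], [85, 34]), ([], [104, 57]), ([15], [22, 79]), ([2], [1, 66, 43]), ([], [120, 4]),
    ([7], [18, 98]), ([5], [66, 15]), ([1], [36, 107]), ([1], [9, 127]), ([10], [66, 58]),
    ([2], [93, 33]), ([2], [111, 40]), ([9], [1, 102]), ([6], [36, 116]), ([6], [47, 100]),
    ([3], [108, 29]), ([1], [126, 33]), ([], [1, 78, 40]), ([7], [122, 10]), ([], [69, 19]),
    ([1], [70, 31]), ([2], [70, 56]), ([8], [1, 75, 37]), ([2], [126, 46]), ([6], [7, 75]),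
    ([5], [30, 78]), ([9], [12, 70]), ([4], [104, 52]), ([12], [56, 97]), ([3], [3, 122]),
    ([8], [27, 112]), ([], [10, 121]), ([11], [3, 76]), ([], [38, 120]), ([2], [5, 94, 34]),
    ([1], [52, 104]), ([1], [2, 83, 55]), ([], [4, 78, 30]), ([2], [23, 120]), ([1], [75, 19]),
    ([], [67, 13]), ([8], [103, 49]), ([4], [39, 81]), ([3], [12, 107])]

/-- witnesses -/
def wit25 : List (List ℕ × List ℕ) :=
  [([4], [75, 39]), ([11], [68, 56]), ([], [1, 94, 25]), ([5], [8, 86, 7]), ([3], [78, 61]),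
    ([6], [38, 81]), ([7], [33, 123]), ([], [1, 82, 57]), ([12], [1, 80, 30]), ([1], [81, 61]),
    ([2], [1, 102, 32]), ([1], [1, 79, 13]), ([9], [60, 66]), ([2], [115, 33]), ([3], [15, 105]),
    ([4], [102, 43]), ([4], [60, 113]), ([], [10, 83]), ([2], [5, 118, 38]), ([1], [4, 93, 54]),
    ([2], [3, 121, 12]), ([6], [98, 21]), ([], [6, 99]), ([5], [11, 125]), ([], [34, 79]),
    ([1], [47, 121]), ([], [25, 78]), ([2], [24, 81]), ([5], [92]), ([9], [21]), ([2], [59, 80]),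
    ([1], [120]), ([3], [2, 107]), ([1], [8, 90]), ([1], [24, 91]), ([2], [36, 75]),
    ([8], [78, 40]), ([4], [2, 111, 3]), ([], [1, 102, 40]), ([2], [62, 74]), ([9], [63, 71]),
    ([3], [51, 123]), ([], [2, 71, 31]), ([], [75, 37]), ([14], [57, 88]), ([2], [2, 116]),
    ([1], [48, 93]), ([9], [13, 70]), ([], [9, 113]), ([10], [52, 66]), ([4], [9, 82]),
    ([], [26, 112]), ([2], [69, 7]), ([2], [1, 126, 28]), ([1], [3, 122, 33]), ([6], [42, 117]),
    ([], [1, 104, 63]), ([24], [54, 93]), ([10], [32, 115]), ([6], [24, 75]), ([], [81, 15]),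
    ([8], [74, 31]), ([1], [75, 16]), ([1], [2, 71, 43])]

/-- witnesses -/
def wit26 : List (List ℕ × List ℕ) :=
  [([22], [28, 75]), ([2], [31, 121]), ([11], [2, 76, 55]), ([], [1, 88, 51]), ([1], [13, 66]),
    ([8], [2, 93]), ([], [2, 98, 42]), ([1], [25, 67]), ([5], [106, 32]), ([1], [31, 115]),
    ([2], [77, 36]), ([14], [1, 112, 33]), ([3], [27, 110]), ([1], [2, 114]), ([7], [10, 91]),
    ([2], [1, 94, 35]), ([3], [2, 77, 61]), ([2], [86, 12]), ([], [26, 98]), ([2], [121, 3]),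
    ([6], [32, 89]), ([], [20, 82]), ([1], [37]), ([3], [81, 47]), ([20], [1, 123, 10]),
    ([], [15, 79]), ([6], [1, 67, 36]), ([], [55, 78]), ([3], [28, 89]), ([4], [40, 114]),
    ([3], [35, 88]), ([7], [86, 14]), ([], [1, 102, 38]), ([3], [1, 68, 61]), ([1], [59, 70]),
    ([4], [21, 69]), ([2], [99, 20]), ([1], [14, 71]), ([4], [52, 68]), ([10], [26, 104]),
    ([3], [111, 49]), ([1], [52, 102]), ([20], [5, 96, 46]), ([1], [10, 103]), ([2], [2, 122, 47]),
    ([4], [60, 84]), ([], [113, 17]), ([], [1, 114, 16]), ([1], [28, 68]), ([], [34, 113]),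
    ([], [52, 112]), ([9], [11, 85]), ([6], [99, 24]), ([1], [60, 69]), ([8], [27, 121]),
    ([4], [35, 71]), ([2], [2, 124]), ([14], [1, 84, 2]), ([5], [58, 78]), ([], [3, 100, 21]),
    ([18], [4, 126]), ([1], [19, 84]), ([24], [2, 71, 42]), ([], [116, 21])]

/-- witnesses -/
def wit27 : List (List ℕ × List ℕ) :=
  [([], [31, 92]), ([7], [124, 49]), ([1], [111, 25]), ([2], [3, 77, 55]), ([], [3, 93]),
    ([23], [88, 3]), ([5], [49, 92]), ([8], [3, 98, 42]), ([], [17, 125]), ([10], [21, 94]),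
    ([1], [30, 96]), ([], [7, 124]), ([5], [17, 90]), ([1], [43, 97]), ([9], [62, 66]),
    ([2], [114, 57]), ([], [1, 86, 58]), ([], [1, 88, 11]), ([1], [25, 76]), ([8], [27, 98]),
    ([1], [53, 77]), ([16], [80, 48]), ([76], [61, 105]), ([11], [11, 91]), ([1], [7, 86]),
    ([2], [1, 117]), ([2], [15, 101]), ([], [122, 46]), ([3], [67, 29]), ([1], [8, 118]),
    ([4], [13, 86]), ([6], [1, 83, 26]), ([6], [1, 106, 53]), ([], [1, 92, 19]),
    ([10], [1, 80, 16]), ([], [96, 28]), ([16], [2, 89]), ([5], [1, 69, 18]), ([3], [78, 23]),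
    ([2], [1, 79, 62]), ([4], [87, 54]), ([1], [2, 114, 48]), ([1], [106, 51]), ([4], [86, 40]),
    ([3], [48, 88]), ([6], [43, 89]), ([3], [14, 89]), ([2], [47, 80]), ([8], [35, 113]),
    ([], [52, 120]), ([1], [1, 84, 31]), ([1], [80, 22]), ([5], [52, 121]), ([12], [113, 6]),
    ([3], [25, 109]), ([], [26, 121]), ([2], [103, 59]), ([9], [8, 69]), ([3], [9, 110]),
    ([], [4, 94, 35]), ([1], [1, 79, 21]), ([17], [36, 113]), ([], [106, 46]), ([2], [2, 100, 25])]

/-- witnesses -/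
def wit28 : List (List ℕ × List ℕ) :=
  [([12], [106, 33]), ([], [1, 112, 50]), ([], [96, 12]), ([1], [77, 46]), ([7], [20, 121]),
    ([1], [82, 17]), ([2], [77, 59]), ([4], [48, 102]), ([15], [112, 15]), ([3], [24, 76]),
    ([], [32, 105]), ([4], [63, 70]), ([4], [10, 71]), ([8], [1, 78, 27]), ([], [56, 104]),
    ([3], [52, 77]), ([1], [6, 122]), ([27], [35, 89]), ([], [8, 116, 13]), ([5], [13, 69]),
    ([10], [52, 111]), ([3], [31, 96]), ([2], [69, 49]), ([11], [15, 107]), ([1], [9, 107]),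
    ([2], [2, 76, 55]), ([3], [98, 50]), ([8], [43, 75]), ([], [1, 87, 7]), ([], [1, 78, 38]),
    ([6], [48, 120]), ([1], [34, 127]), ([1], [1, 68, 25]), ([1], [1, 96, 16]), ([2], [59, 97]),
    ([], [2, 127]), ([], [42, 107]), ([2], [11, 96]), ([4], [27, 115]), ([6], [3, 124]),
    ([11], [88, 40]), ([8], [1, 93, 14]), ([3], [126, 49]), ([3], [84, 31]), ([2], [124, 24]),
    ([], [35, 122]), ([1], [9, 70, 18]), ([], [31, 123]), ([1], [5, 105]), ([11], [108, 57]),
    ([2], [21, 86]), ([8], [71, 22]), ([1], [28, 104]), ([9], [13, 85]), ([13], [13, 118]),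
    ([2], [30, 118]), ([10], [1, 68, 61]), ([], [100, 11]), ([1], [4, 117, 46]), ([4], [33]),
    ([19], [49, 110]), ([25], [10, 96]), ([6], [110, 43]), ([], [3, 67, 54])]

/-- witnesses -/
def wit29 : List (List ℕ × List ℕ) :=
  [([5], [87, 38]), ([11], [32, 85]), ([3], [1, 101, 51]), ([7], [12, 101]), ([2], [93, 12]),
    ([2], [100, 2]), ([], [1, 80, 6]), ([5], [106, 52]), ([1], [84, 50]), ([4], [3, 114, 49]),
    ([1], [1, 86, 12]), ([2], [8, 68, 60]), ([], [78, 27]), ([], [71, 46]), ([6], [53, 93]),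
    ([5], [27, 89]), ([1], [94, 35]), ([2], [119, 33]), ([14], [44, 77]), ([8], [8, 104, 11]),
    ([], [4, 100]), ([1], [113, 28]), ([3], [1, 86, 31]), ([], [8, 116]), ([4], [1, 96, 11]),
    ([6], [2, 66, 21]), ([], [42, 75]), ([1], [30, 121]), ([5], [28, 110]), ([1], [48, 120]),
    ([], [51, 74]), ([7], [2, 80, 3]), ([13], [29, 92]), ([], [54, 80]), ([2], [18, 110]),
    ([3], [5, 119]), ([], [17, 81]), ([4], [79, 16]), ([3], [14, 87]), ([1], [21, 125]),
    ([], [93, 14]), ([28], [9, 104]), ([4], [60, 97]), ([9], [9, 70]), ([1], [7, 93]),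
    ([2], [3, 109]), ([], [5, 86, 18]), ([10], [20, 105]), ([3], [51, 96]), ([1], [3, 122, 47]),
    ([], [70, 32]), ([2], [45, 88]), ([4], [37, 77]), ([], [105, 3]), ([13], [115, 12]),
    ([3], [2, 97]), ([4], [18, 86]), ([3], [68, 12]), ([2], [3, 67, 37]), ([3], [74, 40]),
    ([1], [1, 99, 20]), ([1], [110, 43]), ([5], [93, 13]), ([5], [1, 100, 3])]

/-- witnesses -/
def wit30 : List (List ℕ × List ℕ) :=
  [([23], [5, 108, 56]), ([2], [1, 111, 10]), ([8], [2, 83, 54]), ([2], [3, 66, 23]),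
    ([1], [8, 67]), ([12], [50, 89]), ([7], [1, 126, 21]), ([], [1, 77, 51]), ([1], [20, 114]),
    ([3], [117, 25]), ([5], [42, 71]), ([2], [19, 96]), ([], [1, 94, 26]), ([], [105, 37]),
    ([6], [40, 77]), ([4], [8, 75]), ([], [5, 116]), ([7], [1, 104, 24]), ([11], [126, 59]),
    ([], [8, 100]), ([3], [49, 112]), ([1], [53]), ([20], [1, 123, 2]), ([3], [39, 113]),
    ([7], [25, 113]), ([], [57, 74]), ([2], [7, 118]), ([3], [123, 40]), ([12], [26, 94]),
    ([], [35, 75]), ([5], [26, 69]), ([2], [9, 86]), ([1], [44, 70]), ([10], [24, 69]),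
    ([], [60, 80]), ([8], [5, 106]), ([6], [1, 124, 17]), ([13], [116, 24]), ([5], [32, 114]),
    ([], [31, 81]), ([6], [2, 76, 54]), ([2], [67, 34]), ([2], [1, 121, 5]), ([], [108, 38]),
    ([18], [27, 97]), ([], [93, 57]), ([16], [71, 26]), ([1], [24, 103]), ([], [2, 83, 56]),
    ([3], [31, 98]), ([1], [13, 68]), ([4], [55, 81]), ([10], [31, 70]), ([6], [116, 39]),
    ([2], [1, 74, 45]), ([], [94, 39]), ([17], [111, 3]), ([1], [6, 84]), ([14], [14, 101]),
    ([10], [44, 103]), ([3], [10, 79]), ([17], [93, 44]), ([3], [50, 78]), ([1], [41, 85])]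

/-- witnesses -/
def wit31 : List (List ℕ × List ℕ) :=
  [([], [99, 51]), ([7], [1, 77, 40]), ([1], [3, 111, 24]), ([], [3, 83, 54]), ([5], [3, 71, 36]),
    ([19], [34, 92]), ([2], [85, 45]), ([13], [90, 41]), ([3], [1, 111, 3]), ([4], [2, 88, 35]),
    ([], [35, 104]), ([1], [22, 97]), ([1], [34, 96]), ([3], [1, 93, 44]), ([], [63, 105]),
    ([7], [18, 104]), ([24], [21, 88]), ([1], [13, 77]), ([8], [9, 100]), ([3], [43, 78]),
    ([13], [13, 95]), ([76], [17, 88]), ([], [1, 110, 28]), ([1], [37, 76]), ([2], [1, 92, 59]),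
    ([1], [17, 119]), ([3], [10, 82]), ([7], [96, 17]), ([1], [30, 87]), ([3], [1, 98]),
    ([], [116, 46]), ([], [120, 15]), ([10], [55, 81]), ([2], [20, 88]), ([], [4, 106]),
    ([2], [46, 89]), ([3], [1, 76, 62]), ([], [45, 126]), ([5], [20, 89]), ([9], [6, 102]),
    ([], [6, 123]), ([5], [2, 67, 37]), ([], [60, 122]), ([11], [10, 71]), ([1], [1, 120, 39]),
    ([23], [100, 39]), ([5], [84, 47]), ([1], [5, 70, 63]), ([3], [2, 123, 41]), ([6], [83, 60]),
    ([2], [7, 111]), ([22], [39, 120]), ([1], [1, 102, 48]), ([1], [97, 49]), ([5], [19, 110]),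
    ([10], [68, 45]), ([], [1, 80, 58]), ([3], [63, 113]), ([3], [40, 112]), ([2], [1, 94]),
    ([11], [24, 68]), ([5], [2, 109]), ([], [83, 22]), ([14], [37, 106])]

/-- witnesses -/
def wit32 : List (List ℕ × List ℕ) :=
  [([], [39, 85]), ([2], [1, 84, 16]), ([9], [17, 68]), ([7], [55, 67]), ([2], [103, 17]),
    ([1], [11, 94]), ([], [13, 84]), ([4], [34, 121]), ([4], [87, 59]), ([1], [38, 110]),
    ([21], [1, 68, 60]), ([], [37, 69]), ([35], [1, 86, 58]), ([4], [86, 44]), ([], [7, 68]),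
    ([1], [13, 111]), ([], [16, 103]), ([1], [67, 36]), ([], [40, 102]), ([13], [101, 63]),
    ([3], [42, 121]), ([7], [8]), ([1], [96, 39]), ([17], [18, 123]), ([5], [23, 112]),
    ([2], [44, 78]), ([3], [1, 79, 57]), ([], [20, 71]), ([], [34, 70]), ([11], [21, 69]),
    ([1], [33, 89]), ([3], [84, 49]), ([4], [3, 112, 49]), ([2], [1, 94, 46]), ([23], [21, 113]),
    ([1], [82, 10]), ([7], [20, 70]), ([3], [53, 93]), ([8], [11, 98]), ([6], [2, 102, 17]),
    ([2], [67, 5]), ([2], [1, 108, 58]), ([13], [54, 97]), ([3], [13, 90]), ([], [56]),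
    ([4], [85, 21]), ([1], [1, 98, 29]), ([1], [104, 12]), ([12], [2, 74, 26]), ([7], [50, 68]),
    ([], [29, 114]), ([4], [39, 92]), ([7], [19, 69]), ([2], [47, 112]), ([], [4, 115]),
    ([3], [2, 66, 21]), ([6], [21, 111]), ([5], [5, 83]), ([1], [1, 99, 24]), ([13], [23, 118]),
    ([17], [79, 31]), ([], [2, 67]), ([], [23, 66]), ([17], [1, 90, 6])]

/-- witnesses -/
def wit33 : List (List ℕ × List ℕ) :=
  [([2], [86, 6]), ([3], [80, 28]), ([4], [104, 13]), ([4], [98, 28]), ([7], [42, 97]),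
    ([], [38, 112]), ([], [51, 113]), ([3], [1, 76, 25]), ([], [1, 102, 47]), ([2], [113, 14]),
    ([7], [1, 111, 25]), ([1], [3, 100, 24]), ([], [1, 88, 23]), ([6], [7, 66]), ([6], [17, 67]),
    ([8], [6, 68]), ([17], [4, 100]), ([1], [4, 70, 52]), ([2], [4, 125]), ([], [1, 71, 29]),
    ([9], [71]), ([3], [38, 122]), ([7], [9, 118]), ([1], [1, 114, 58]), ([], [89, 18]),
    ([], [102, 42]), ([8], [21, 71]), ([6], [42]), ([1], [58, 81]), ([2], [21, 93]),
    ([7], [52, 77]), ([3], [47, 107]), ([], [82]), ([10], [26, 99]), ([13], [43, 110]),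
    ([1], [25, 74]), ([3], [93, 25]), ([3], [126, 32]), ([2], [74, 31]), ([], [10, 98]),
    ([], [28, 79]), ([10], [1, 78]), ([], [37, 78]), ([1], [33, 116]), ([2], [11, 121]),
    ([4], [2, 94]), ([16], [34, 70]), ([18], [6, 81]), ([1], [78, 10]), ([1], [126, 12]),
    ([], [87, 30]), ([7], [79, 21]), ([9], [3, 66]), ([3], [37, 105]), ([13], [44, 89]),
    ([], [92, 2]), ([14], [21, 120]), ([2], [1, 69, 19]), ([4], [2, 77, 60]), ([1], [108, 42]),
    ([7], [84, 31]), ([3], [71, 41]), ([3], [4, 70, 5]), ([8], [22, 66])]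

/-- witnesses -/
def wit34 : List (List ℕ × List ℕ) :=
  [([8], [115, 5]), ([5], [12, 81]), ([7], [22, 118]), ([4], [92, 49]), ([5], [41, 80]),
    ([3], [12, 100]), ([1], [67, 59]), ([1], [1, 74, 44]), ([7], [45, 77]), ([9], [53, 85]),
    ([13], [1, 75, 24]), ([1], [124, 29]), ([27], [3, 114, 48]), ([], [4, 69, 19]),
    ([4], [1, 67, 61]), ([], [101, 16]), ([6], [52, 93]), ([], [78, 30]), ([3], [106, 59]),
    ([8], [117, 39]), ([], [102, 36]), ([7], [55, 97]), ([5], [1, 77, 35]), ([2], [8, 68, 54]),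
    ([11], [77, 48]), ([1], [1, 84, 61]), ([], [34, 120]), ([2], [80, 48]), ([], [14, 121]),
    ([3], [1, 78, 26]), ([11], [2, 120, 40]), ([4], [68, 51]), ([3], [1, 123, 5]), ([8], [26, 88]),
    ([1], [51, 77]), ([2], [2, 101, 12]), ([], [20, 124]), ([5], [1, 76, 33]), ([4], [13, 108]),
    ([], [1, 125]), ([8], [78, 2]), ([1], [14, 118]), ([], [16, 93]), ([11], [15, 74]),
    ([1], [1, 86]), ([14], [45, 80]), ([], [11, 92]), ([4], [57, 110]), ([1], [2, 82, 50]),
    ([], [1, 66, 36]), ([1], [89, 14]), ([7], [2, 121, 4]), ([3], [27, 81]), ([5], [9, 101]),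
    ([4], [94, 22]), ([2], [8, 95]), ([2], [45, 111]), ([4], [62, 89]), ([], [1, 98, 7]),
    ([], [122, 16]), ([3], [121, 12]), ([1], [45, 97]), ([2], [5, 110]), ([12], [34])]

/-- witnesses -/
def wit35 : List (List ℕ × List ℕ) :=
  [([3], [20, 98]), ([], [90, 45]), ([1], [19, 120]), ([13], [2, 68, 13]), ([1], [62, 121]),
    ([], [70, 39]), ([10], [37, 106]), ([3], [27, 82]), ([1], [106, 47]), ([24], [14, 96]),
    ([2], [28, 102]), ([16], [36, 81]), ([4], [18, 125]), ([1], [1, 94, 34]), ([8], [93, 20]),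
    ([3], [3, 79]), ([5], [88, 15]), ([3], [2, 82, 56]), ([], [1, 117, 39]), ([], [1, 83, 27]),
    ([3], [113, 5]), ([1], [87, 15]), ([9], [2, 71]), ([1], [105, 56]), ([2], [17, 85]),
    ([16], [2, 98, 21]), ([5], [100, 3]), ([5], [1, 93, 13]), ([6], [76, 15]), ([], [81, 18]),
    ([2], [58, 84]), ([4], [3, 122, 46]), ([], [27, 88]), ([1], [1, 123, 11]), ([], [38, 89]),
    ([6], [18, 82]), ([2], [38, 66]), ([4], [1, 116, 32]), ([5], [1, 106, 52]), ([2], [55, 67]),
    ([5], [26, 89]), ([], [1, 78, 2]), ([5], [37, 88]), ([1], [120, 13]), ([18], [118, 59]),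
    ([2], [49, 115]), ([], [68, 2]), ([6], [49, 78]), ([8], [66, 36]), ([1], [38, 93]),
    ([16], [26, 75]), ([], [33, 110]), ([6], [1, 66, 27]), ([], [10, 111]), ([2], [8]),
    ([12], [6, 122]), ([3], [2, 113, 16]), ([], [22, 108]), ([4], [108, 3]), ([8], [98, 7]),
    ([], [12, 94]), ([1], [31, 90]), ([1], [12, 91]), ([4], [4, 75, 42])]

/-- witnesses -/
def wit36 : List (List ℕ × List ℕ) :=
  [([3], [112, 7]), ([3], [5, 94, 45]), ([7], [58, 105]), ([5], [33, 93]), ([2], [70, 51]),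
    ([2], [1, 96, 32]), ([7], [38, 104]), ([5], [60, 92]), ([10], [28, 75]), ([9], [27, 84]),
    ([1], [68, 44]), ([2], [2, 110, 17]), ([6], [4, 82]), ([], [69, 18]), ([5], [11, 91]),
    ([], [84, 3]), ([], [76, 7]), ([7], [66, 41]), ([1], [3, 120, 41]), ([3], [77, 44]),
    ([1], [113, 21]), ([], [1, 71, 19]), ([5], [102, 12]), ([3], [110, 12]), ([1], [33, 80]),
    ([], [53, 121]), ([4], [21, 75]), ([3], [28, 112]), ([10], [2, 74, 36]), ([1], [81]),
    ([2], [71, 10]), ([], [29, 120]), ([2], [1, 104, 5]), ([], [1, 91]), ([], [16, 90]),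
    ([16], [18, 68]), ([4], [44, 81]), ([8], [8, 88]), ([1], [58, 75]), ([8], [52, 89]),
    ([6], [34, 112]), ([13], [61, 122]), ([4], [85, 58]), ([], [46, 93]), ([4], [69, 22]),
    ([1], [10, 117]), ([1], [5, 101]), ([], [48, 92]), ([2], [37, 123]), ([5], [57, 121]),
    ([2], [27, 122]), ([], [9, 66, 43]), ([3], [31, 78]), ([4], [1, 102, 33]), ([1], [3, 106, 62]),
    ([1], [3, 67, 42]), ([3], [12, 83]), ([1], [108, 37]), ([2], [13, 126]), ([6], [1, 112, 5]),
    ([], [1, 102, 13]), ([], [100, 48]), ([9], [22, 115]), ([3], [99])]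

/-- witnesses -/
def wit37 : List (List ℕ × List ℕ) :=
  [([], [89, 4]), ([2], [97, 11]), ([9], [48, 69]), ([5], [43, 76]), ([], [113, 7]),
    ([1], [15, 95]), ([4], [63, 97]), ([2], [1, 87, 60]), ([1], [42, 111]), ([3], [1, 80, 18]),
    ([2], [9, 81]), ([18], [9, 104]), ([4], [68, 13]), ([39], [94, 27]), ([1], [2, 110]),
    ([2], [44, 80]), ([3], [113, 21]), ([4], [17, 86]), ([1], [126, 16]), ([5], [1, 98, 37]),
    ([4], [26, 118]), ([1], [2, 90, 41]), ([], [2, 106, 43]), ([], [2, 67, 60]), ([1], [5, 89]),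
    ([3], [81]), ([1], [60, 88]), ([7], [126, 24]), ([3], [33, 80]), ([10], [100, 25]),
    ([], [81, 31]), ([2], [1, 106, 41]), ([2], [77, 55]), ([2], [2, 80, 3]), ([3], [58, 75]),
    ([6], [5, 69, 18]), ([], [9, 88]), ([5], [112, 57]), ([], [53, 89]), ([4], [100, 39]),
    ([1], [1, 67, 28]), ([1], [77, 3]), ([2], [1, 114, 56]), ([], [101, 13]), ([], [71, 32]),
    ([24], [124, 25]), ([8], [49, 92]), ([10], [114, 56]), ([2], [41, 74]), ([], [27, 111]),
    ([3], [3, 106, 62]), ([3], [3, 67, 42]), ([2], [52, 75]), ([10], [40, 74]), ([15], [46, 127]),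
    ([], [50, 110]), ([1], [116, 59]), ([4], [101, 62]), ([12], [2, 101, 13]), ([], [108]),
    ([1], [1, 123, 2]), ([3], [108, 37]), ([], [29, 94]), ([9], [23, 115])]

/-- witnesses -/
def wit38 : List (List ℕ × List ℕ) :=
  [([2], [96, 7]), ([], [43, 84]), ([1], [16, 121]), ([12], [47, 71]), ([1], [59, 120]),
    ([3], [1, 79, 4]), ([8], [58, 112]), ([], [2, 85]), ([16], [4, 75]), ([1], [1, 80, 21]),
    ([18], [2, 121, 12]), ([], [39, 68]), ([1], [1, 71, 18]), ([4], [78, 58]), ([], [69]),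
    ([6], [17, 84]), ([2], [46, 77]), ([3], [17, 104]), ([7], [99, 46]), ([9], [7, 71]),
    ([], [11, 102]), ([3], [11, 105]), ([], [55, 103]), ([7], [83, 10]), ([], [7, 70]),
    ([3], [114, 32]), ([2], [31, 86]), ([4], [1, 96, 37]), ([7], [41, 120]), ([6], [8, 103]),
    ([23], [1, 83, 61]), ([], [51, 71]), ([3], [3, 80, 29]), ([5], [67, 48]), ([5], [119, 15]),
    ([4], [11, 77]), ([1], [1, 88, 10]), ([1], [86, 59]), ([3], [100, 10]), ([8], [17, 98]),
    ([5], [23, 105]), ([], [28]), ([12], [37, 114]), ([11], [23, 89]), ([4], [24, 87]),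
    ([1], [1, 118, 14]), ([2], [2, 66, 49]), ([30], [74, 51]), ([], [36, 115]),
    ([8], [3, 111, 20]), ([1], [10, 93]), ([6], [15, 66]), ([], [60, 114]), ([2], [4, 108, 50]),
    ([1], [21, 92]), ([28], [23, 75]), ([4], [36, 96]), ([], [34, 67]), ([], [48, 66]),
    ([3], [40, 127]), ([1], [26, 125]), ([2], [79, 24]), ([7], [94, 11]), ([1], [14, 124])]

/-- witnesses -/
def wit39 : List (List ℕ × List ℕ) :=
  [([8], [42, 84]), ([5], [31]), ([4], [35, 75]), ([6], [28, 95]), ([], [47, 113]),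
    ([7], [50, 123]), ([1], [126, 48]), ([], [59, 112]), ([], [102, 46]), ([4], [8, 100]),
    ([1], [69, 59]), ([7], [3, 107]), ([], [3, 68, 34]), ([18], [77, 45]), ([3], [1, 92, 19]),
    ([8], [1, 69]), ([13], [50, 104]), ([7], [67, 55]), ([4], [1, 94, 26]), ([3], [106, 46]),
    ([5], [33, 67]), ([8], [10, 102]), ([3], [4, 94, 35]), ([], [1, 90, 30]), ([6], [18, 89]),
    ([8], [6, 70]), ([], [1, 108, 10]), ([], [1, 76, 14]), ([4], [1, 77, 51]), ([1], [116, 38]),
    ([1], [80, 13]), ([10], [27, 121]), ([10], [6, 124]), ([], [31, 82]), ([3], [7, 124]),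
    ([7], [14, 105]), ([23], [6, 96]), ([28], [58, 110]), ([], [16, 98]), ([1], [18, 76]),
    ([4], [2, 83, 56]), ([5], [1, 85]), ([1], [1, 118]), ([14], [2, 67, 34]), ([10], [30, 92]),
    ([], [56, 78]), ([3], [31, 92]), ([], [7, 79]), ([], [2, 111, 20]), ([4], [93, 57]),
    ([9], [5, 66]), ([5], [48, 71]), ([5], [4, 70]), ([], [75, 22]), ([7], [89, 55]),
    ([1], [84, 29]), ([1], [38, 97]), ([6], [74, 57]), ([3], [1, 88, 11]), ([3], [1, 86, 58]),
    ([7], [104, 2]), ([5], [52, 103]), ([4], [31, 81]), ([1], [21, 96])]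

/-- witnesses -/
def wit40 : List (List ℕ × List ℕ) :=
  [([10], [51, 67]), ([], [38, 111]), ([6], [2, 76]), ([4], [19, 95]), ([2], [1, 124, 56]),
    ([1], [98, 46]), ([4], [8, 109]), ([], [11, 110]), ([], [27, 109]), ([3], [123, 38]),
    ([6], [24, 86]), ([11], [2, 74, 27]), ([10], [53, 115]), ([], [7, 95]), ([3], [1, 106, 40]),
    ([6], [18, 118]), ([14], [24, 113]), ([5], [5, 92]), ([4], [2, 77, 61]), ([1], [22, 120]),
    ([8], [45, 80]), ([], [12, 89]), ([10], [12]), ([], [50, 88]), ([1], [4, 94, 34]),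
    ([], [2, 83, 34]), ([6], [51, 97]), ([3], [25, 80]), ([4], [35, 88]), ([1], [77, 37]),
    ([], [69, 15]), ([8], [115, 17]), ([2], [27, 97]), ([1], [62, 92]), ([11], [34, 75]),
    ([4], [1, 68, 61]), ([13], [87, 49]), ([1], [35, 93]), ([], [103, 52]), ([], [120, 25]),
    ([], [88, 6]), ([3], [36, 116]), ([3], [47, 100]), ([4], [123, 56]), ([2], [1, 111, 11]),
    ([1], [26, 90]), ([1], [9, 91]), ([11], [9, 100]), ([9], [1, 114]), ([2], [28, 119]),
    ([3], [92, 12]), ([], [71, 37]), ([2], [18, 87]), ([5], [126, 47]), ([1], [90, 49]),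
    ([], [1, 74, 56]), ([1], [66, 43]), ([3], [83, 41]), ([9], [14, 66]), ([6], [87, 55]),
    ([8], [1, 77, 55]), ([4], [90, 58]), ([2], [3, 77]), ([7], [42, 74])]

/-- witnesses -/
def wit41 : List (List ℕ × List ℕ) :=
  [([2], [4, 96]), ([13], [70, 24]), ([3], [49, 93]), ([], [1, 100, 25]), ([], [1, 106, 41]),
    ([7], [8, 98, 3]), ([3], [43, 92]), ([2], [50, 97]), ([14], [1, 96, 42]), ([1], [90, 44]),
    ([3], [9, 90]), ([6], [94, 26]), ([4], [1, 114, 48]), ([1], [1, 75, 15]), ([9], [30, 68]),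
    ([2], [2, 88, 44]), ([], [9, 81]), ([11], [67, 43]), ([1], [5, 92, 49]), ([2], [19, 118]),
    ([6], [9, 100]), ([], [44, 80]), ([2], [25, 86]), ([3], [121, 21]), ([], [1, 87, 60]),
    ([25], [67, 58]), ([1], [77, 32]), ([1], [2, 80, 16]), ([10], [59, 123]), ([2], [40, 77]),
    ([], [97, 11]), ([8], [76, 43]), ([6], [30, 81]), ([], [12, 101]), ([], [2, 117]),
    ([7], [13, 95]), ([2], [1, 87, 55]), ([1], [2, 74, 43]), ([3], [79, 13]), ([2], [116, 39]),
    ([], [52, 75]), ([1], [59, 89]), ([4], [29, 96]), ([1], [88]), ([], [41, 74]), ([4], [40, 97]),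
    ([7], [110]), ([9], [39]), ([5], [4, 125]), ([1], [8, 108]), ([], [1, 114, 56]),
    ([4], [26, 76]), ([1], [22, 94]), ([2], [1, 124, 17]), ([8], [74, 56]), ([3], [1, 120]),
    ([9], [27, 67]), ([3], [76, 52]), ([1], [16, 111]), ([9], [15, 66]), ([], [2, 80, 3]),
    ([], [77, 55]), ([10], [25, 104]), ([4], [4, 86])]

/-- witnesses -/
def wit42 : List (List ℕ × List ℕ) :=
  [([17], [2, 66, 14]), ([2], [23, 83]), ([3], [1, 90, 39]), ([], [1, 79, 21]), ([8], [4, 94, 35]),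
    ([4], [2, 88, 23]), ([1], [8, 69]), ([10], [92, 10]), ([1], [38, 84]), ([5], [87, 41]),
    ([2], [56, 79]), ([6], [8, 77]), ([7], [60, 67]), ([3], [80, 14]), ([], [1, 84, 31]),
    ([], [80, 22]), ([], [2, 114, 48]), ([3], [16, 75]), ([2], [1, 88, 34]), ([], [106, 51]),
    ([1], [15, 70]), ([3], [12, 74]), ([12], [43, 66]), ([2], [86, 51]), ([16], [1, 122, 47]),
    ([1], [2, 102]), ([3], [36, 117]), ([1], [57, 103]), ([10], [10, 119]), ([12], [62, 115]),
    ([5], [12, 75]), ([17], [113]), ([], [7, 86]), ([3], [1, 120, 40]), ([16], [1, 78, 28]),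
    ([5], [51, 81]), ([11], [79, 48]), ([], [8, 118]), ([2], [6, 112]), ([1], [23]),
    ([3], [41, 81]), ([], [25, 76]), ([7], [44, 71]), ([2], [2, 112, 3]), ([4], [3, 82]),
    ([3], [9, 80]), ([14], [44, 106]), ([], [53, 77]), ([1], [62, 66]), ([12], [40, 71]),
    ([7], [48, 84]), ([], [43, 97]), ([], [30, 96]), ([8], [7, 124]), ([2], [1, 94, 33]),
    ([11], [104]), ([2], [4, 78, 18]), ([2], [87, 49]), ([17], [14, 99]), ([1], [40, 115]),
    ([3], [111, 63]), ([], [126, 50]), ([23], [25, 115]), ([], [111, 25])]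

/-- witnesses -/
def wit43 : List (List ℕ × List ℕ) :=
  [([], [117, 21]), ([3], [1, 79, 56]), ([4], [103, 63]), ([10], [1, 71, 43]), ([1], [3, 100, 21]),
    ([], [5, 94, 35]), ([7], [3, 80, 28]), ([18], [32, 81]), ([5], [1, 123, 5]),
    ([6], [2, 112, 11]), ([], [27, 121]), ([3], [36, 120]), ([], [53, 120]), ([1], [34, 113]),
    ([1], [52, 112]), ([2], [10, 113]), ([2], [1, 71, 31]), ([2], [94, 45]), ([7], [37, 122]),
    ([11], [116, 13]), ([4], [3, 123]), ([16], [49, 96]), ([1], [1, 114, 16]), ([1], [113, 17]),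
    ([], [1, 96, 28]), ([5], [27, 81]), ([], [92, 19]), ([10], [27, 91]), ([5], [56, 80]),
    ([3], [84, 2]), ([13], [40, 70]), ([2], [1, 74, 17]), ([40], [39, 104]), ([1], [15, 79]),
    ([], [1, 122, 46]), ([1], [55, 78]), ([8], [9, 118]), ([5], [61, 74]), ([11], [11, 127]),
    ([78], [33, 104]), ([4], [1, 110, 29]), ([1], [26, 98]), ([], [86, 58]), ([], [88, 11]),
    ([3], [1, 70, 40]), ([3], [112, 33]), ([1], [20, 82]), ([5], [1, 116]), ([12], [19, 97]),
    ([4], [38, 104]), ([7], [38, 105]), ([9], [2, 114]), ([], [6, 124]), ([4], [58, 105]),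
    ([5], [1, 78, 26]), ([], [16, 125]), ([], [2, 93]), ([2], [2, 82, 57]), ([3], [13, 92]),
    ([1], [2, 98, 42]), ([], [30, 92]), ([13], [12, 67]), ([1], [1, 88, 51]), ([24], [17, 118])]

/-- witnesses -/
def wit44 : List (List ℕ × List ℕ) :=
  [([16], [2, 87, 58]), ([2], [51, 122]), ([], [3, 68, 45]), ([1], [41, 69]), ([10], [1, 68, 55]),
    ([], [1, 104, 21]), ([1], [15, 68]), ([8], [4, 111]), ([7], [124, 48]), ([1], [43, 85]),
    ([3], [12, 109]), ([4], [1, 106, 53]), ([4], [79, 54]), ([10], [1, 80, 49]), ([2], [12, 106]),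
    ([1], [4, 84]), ([1], [46, 70]), ([], [52, 81]), ([8], [45, 89]), ([3], [39, 88]),
    ([], [22, 80]), ([9], [13, 103]), ([2], [117, 40]), ([1], [30, 71]), ([4], [4, 94]),
    ([10], [1, 102, 4]), ([17], [23, 71]), ([], [86, 39]), ([3], [3, 106, 52]), ([], [5, 118, 39]),
    ([24], [8, 74]), ([1], [37, 102]), ([5], [3, 83, 55]), ([4], [98, 14]), ([1], [55]),
    ([3], [82, 28]), ([], [44, 116]), ([4], [89, 5]), ([2], [48, 105]), ([], [38, 100]),
    ([21], [63, 121]), ([], [11, 75]), ([5], [53, 104]), ([3], [98, 10]), ([2], [1, 69, 54]),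
    ([], [19, 74]), ([5], [46, 105]), ([2], [1, 112, 51]), ([], [1, 114, 50]), ([5], [1, 70, 31]),
    ([3], [94, 18]), ([11], [6, 67]), ([1], [29, 66]), ([2], [1, 120, 14]), ([3], [123, 3]),
    ([1], [10, 67]), ([5], [123, 17]), ([1], [22, 114]), ([], [81, 33]), ([], [1, 84, 32]),
    ([17], [1, 67]), ([1], [12, 115]), ([4], [4, 92, 59]), ([6], [30, 102])]

/-- witnesses -/
def wit45 : List (List ℕ × List ℕ) :=
  [([], [43, 110]), ([3], [94, 17]), ([7], [17, 110]), ([8], [2, 68, 45]), ([1], [123, 41]),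
    ([4], [2, 83, 60]), ([], [5, 111]), ([20], [37, 120]), ([], [26, 108]), ([12], [39, 106]),
    ([9], [26, 68]), ([4], [84, 25]), ([1], [42, 112]), ([], [3, 94]), ([2], [116, 10]),
    ([1], [61, 113]), ([8], [53, 81]), ([], [22, 88]), ([2], [6, 106]), ([], [44, 89]),
    ([1], [1, 102, 43]), ([1], [89, 19]), ([7], [22, 89]), ([11], [4, 102]), ([2], [62, 122]),
    ([9], [8, 71]), ([], [124, 58]), ([4], [4, 118, 41]), ([5], [9, 122]), ([], [3, 77, 60]),
    ([1], [1, 75, 39]), ([21], [85, 48]), ([], [1, 98, 28]), ([], [1, 104, 13]), ([78], [31, 121]),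
    ([13], [13, 109]), ([1], [41, 78]), ([8], [45, 116]), ([1], [23, 79]), ([24], [8, 98]),
    ([1], [3, 98]), ([3], [28, 87]), ([2], [87, 50]), ([2], [1, 92, 31]), ([3], [19, 119]),
    ([], [92, 58]), ([5], [69, 47]), ([1], [8, 82]), ([2], [1, 83, 54]), ([], [1, 110, 37]),
    ([5], [74, 35]), ([2], [75, 18]), ([12], [1, 96, 32]), ([], [112, 46]), ([17], [32, 92]),
    ([7], [1, 71, 36]), ([6], [88, 35]), ([1], [3, 111, 3]), ([3], [20, 97]), ([2], [33, 104]),
    ([1], [124, 21]), ([3], [32, 96]), ([5], [16, 104]), ([2], [61, 105])]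

/-- witnesses -/
def wit46 : List (List ℕ × List ℕ) :=
  [([11], [26, 88]), ([], [1, 80, 20]), ([4], [79, 29]), ([6], [16, 114]), ([], [112, 14]),
    ([1], [79, 58]), ([3], [38, 89]), ([1], [100, 33]), ([11], [80, 11]), ([2], [1, 98, 14]),
    ([], [24, 120]), ([3], [1, 78, 2]), ([], [48, 121]), ([2], [102, 20]), ([6], [12, 67]),
    ([8], [1, 74, 45]), ([1], [7, 121]), ([13], [126, 25]), ([11], [11, 111]), ([4], [22, 99]),
    ([2], [5, 92, 59]), ([8], [67, 34]), ([1], [46, 120]), ([9], [15, 103]), ([11], [23, 108]),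
    ([], [118, 13]), ([2], [83, 26]), ([], [5, 69, 18]), ([1], [2, 126, 25]), ([6], [49]),
    ([19], [14, 80]), ([22], [38, 97]), ([1], [2, 92]), ([20], [68, 54]), ([2], [81, 46]),
    ([13], [11, 125]), ([], [8, 86, 15]), ([2], [106, 53]), ([12], [22, 123]), ([5], [43, 112]),
    ([1], [9, 125]), ([4], [4, 78, 19]), ([2], [16, 88]), ([1], [30, 124]), ([5], [116, 20]),
    ([8], [61, 77]), ([], [1, 99, 3]), ([], [1, 74, 50]), ([1], [1, 70, 41]), ([1], [1, 112, 32]),
    ([6], [45, 85]), ([2], [5, 94]), ([3], [1, 117, 39]), ([], [4, 91]), ([], [21, 90]),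
    ([4], [13, 112]), ([13], [104, 56]), ([8], [1, 111, 10]), ([1], [9, 66, 36]), ([], [43, 93]),
    ([5], [90, 17]), ([2], [45, 110]), ([4], [94, 40]), ([], [53, 92])]

/-- witnesses -/
def wit47 : List (List ℕ × List ℕ) :=
  [([3], [4, 87]), ([13], [48, 103]), ([], [1, 96, 2]), ([2], [15, 108]), ([5], [1, 119, 21]),
    ([3], [14, 119]), ([2], [17, 94]), ([4], [118, 4]), ([1], [102, 20]), ([6], [2, 111, 2]),
    ([2], [23, 111]), ([7], [45, 105]), ([1], [1, 98, 14]), ([4], [8, 70, 30]), ([], [74, 45]),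
    ([], [67, 58]), ([3], [9, 97]), ([1], [5, 92, 59]), ([10], [93, 60]), ([2], [102, 17]),
    ([], [66, 48]), ([4], [63, 104]), ([6], [55, 79]), ([], [121, 5]), ([3], [113, 13]),
    ([5], [70, 14]), ([3], [1, 88, 45]), ([7], [1, 118, 5]), ([4], [5, 69, 55]), ([2], [60, 89]),
    ([1], [1, 117, 38]), ([1], [83, 26]), ([1], [106, 53]), ([4], [83, 49]), ([5], [1, 98, 43]),
    ([], [8, 86]), ([10], [62, 79]), ([8], [8, 120, 13]), ([], [6, 118]), ([1], [81, 46]),
    ([2], [3, 67, 61]), ([2], [2, 106, 42]), ([], [21, 76]), ([3], [4, 96, 5]), ([], [60, 77]),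
    ([1], [42, 89]), ([7], [46, 122]), ([1], [16, 88]), ([15], [47, 110]), ([], [18, 96]),
    ([5], [10, 99]), ([1], [28, 108]), ([4], [36, 122]), ([3], [1, 124, 57]), ([], [33, 97]),
    ([6], [75, 32]), ([], [111, 10]), ([19], [114, 33]), ([], [2, 66, 23]), ([10], [2, 98, 57]),
    ([6], [30, 113]), ([9], [9, 66]), ([1], [3, 111]), ([4], [5, 127])]

/-- witnesses -/
def wit48 : List (List ℕ × List ℕ) :=
  [([], [51, 103]), ([4], [1, 102, 32]), ([], [15, 102]), ([6], [52, 89]), ([9], [33, 70]),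
    ([3], [19, 69]), ([4], [115, 33]), ([1], [13, 106]), ([6], [99, 29]), ([1], [50, 122]),
    ([], [3, 70]), ([1], [15, 123]), ([17], [111, 38]), ([], [55, 71]), ([21], [37, 96]),
    ([6], [98, 62]), ([14], [3, 114, 49]), ([3], [20, 70]), ([], [6, 85]), ([5], [2, 106, 42]),
    ([], [47, 84]), ([2], [15, 126]), ([3], [37, 71]), ([4], [59, 80]), ([2], [39, 123]),
    ([7], [7, 101]), ([], [35, 68]), ([17], [116, 3]), ([1], [1, 117, 40]), ([11], [60, 78]),
    ([18], [19, 92]), ([], [4, 69]), ([], [32, 115]), ([1], [69, 54]), ([1], [112, 51]),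
    ([29], [2, 76, 61]), ([], [56, 114]), ([15], [93, 60]), ([5], [60, 89]), ([3], [8]),
    ([2], [85, 27]), ([2], [1, 69, 31]), ([1], [49, 105]), ([5], [102, 17]), ([5], [1, 75, 25]),
    ([], [38, 67]), ([], [52, 66]), ([13], [39, 71]), ([2], [84, 19]), ([4], [1, 106, 58]),
    ([8], [13, 116]), ([2], [3, 76, 61]), ([17], [95]), ([1], [100, 12]), ([3], [38, 66]),
    ([5], [23, 111]), ([4], [69, 7]), ([2], [7, 104]), ([1], [1, 116, 47]), ([1], [120, 14]),
    ([15], [18, 113]), ([2], [26, 105]), ([], [24]), ([3], [46, 114])]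

/-- witnesses -/
def wit49 : List (List ℕ × List ℕ) :=
  [([4], [98, 2]), ([2], [35, 85]), ([], [21, 81]), ([5], [1, 78, 41]), ([6], [120, 15]),
    ([3], [43, 112]), ([3], [60, 113]), ([], [50, 80]), ([], [1, 114, 59]), ([4], [81, 10]),
    ([2], [33, 69]), ([8], [2, 70]), ([3], [1, 123, 41]), ([1], [5, 118, 40]), ([], [1, 86, 18]),
    ([2], [3, 68]), ([1], [74, 12]), ([1], [90, 14]), ([15], [62, 105]), ([], [110, 4]),
    ([], [99, 42]), ([3], [75, 39]), ([9], [5, 68]), ([5], [55, 121]), ([10], [39, 88]),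
    ([4], [1, 71, 37]), ([2], [16, 71]), ([8], [34, 68]), ([6], [3, 83, 54]), ([1], [87, 27]),
    ([3], [102, 43]), ([3], [90, 17]), ([18], [49, 111]), ([1], [3, 98, 37]), ([3], [9, 82]),
    ([1], [1, 84, 28]), ([4], [6, 95]), ([], [1, 67, 47]), ([9], [67]), ([5], [50, 92]),
    ([], [105, 36]), ([], [94, 27]), ([3], [22, 79]), ([5], [18, 90]), ([8], [39, 67]),
    ([2], [60]), ([1], [28, 97]), ([4], [39, 111]), ([], [100]), ([12], [44, 117]),
    ([4], [76, 43]), ([], [12, 116]), ([11], [9, 89]), ([1], [41, 76]), ([3], [2, 111, 3]),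
    ([2], [115]), ([], [46, 75]), ([10], [123, 3]), ([20], [66, 38]), ([29], [88, 51]),
    ([], [55, 74]), ([1], [27, 119]), ([4], [13, 89]), ([2], [19, 66])]

/-- witnesses -/
def wit50 : List (List ℕ × List ℕ) :=
  [([2], [42, 70]), ([], [61, 102]), ([8], [28, 80]), ([], [4, 103]), ([1], [32, 89]),
    ([11], [43, 88]), ([1], [29, 88]), ([2], [26, 71]), ([17], [18]), ([1], [1, 96, 39]),
    ([], [71]), ([2], [33, 102]), ([19], [1, 74]), ([], [51, 70]), ([1], [1, 67, 36]),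
    ([3], [94, 19]), ([], [54, 85]), ([8], [3, 100, 24]), ([1], [39, 110]), ([26], [5, 78, 30]),
    ([1], [12, 111]), ([2], [11, 68]), ([], [30, 84]), ([3], [9, 68, 55]), ([2], [84]),
    ([], [52, 69]), ([3], [106, 13]), ([1], [10, 94]), ([], [16, 68]), ([5], [23, 124]),
    ([1], [16, 108]), ([4], [75, 40]), ([4], [58, 79]), ([2], [14, 67]), ([], [19, 115]),
    ([3], [101, 12]), ([3], [117, 58]), ([9], [3, 67]), ([], [13, 114]), ([5], [13, 121]),
    ([], [3, 66]), ([5], [84, 48]), ([21], [2, 123, 38]), ([], [21, 67]), ([3], [89]),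
    ([6], [1, 92, 22]), ([3], [57, 88]), ([2], [8, 115]), ([5], [5, 96, 47]), ([7], [69, 16]),
    ([3], [21, 109]), ([8], [33, 116]), ([7], [83, 11]), ([6], [13, 79]), ([1], [1, 104, 12]),
    ([1], [98, 29]), ([3], [47, 111]), ([], [46]), ([4], [3, 88, 34]), ([22], [8, 76]),
    ([10], [94, 28]), ([13], [35, 105]), ([3], [7, 110]), ([1], [1, 82, 10])]

/-- witnesses -/
def wit51 : List (List ℕ × List ℕ) :=
  [([8], [60, 102]), ([7], [43]), ([1], [90, 16]), ([], [29, 80]), ([6], [53, 77]),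
    ([2], [46, 107]), ([], [59, 81]), ([3], [20, 93]), ([], [114, 58]), ([6], [8, 118]),
    ([2], [39, 122]), ([8], [1, 71]), ([1], [71, 29]), ([3], [5, 125]), ([], [5, 70, 52]),
    ([16], [5, 100]), ([], [2, 100, 24]), ([6], [111, 25]), ([3], [85, 34]), ([1], [102, 47]),
    ([9], [7, 68]), ([7], [16, 67]), ([7], [6, 66]), ([], [77, 34]), ([1], [50, 113]),
    ([2], [76, 25]), ([6], [43, 97]), ([1], [39, 112]), ([5], [1, 104, 13]), ([5], [1, 98, 28]),
    ([3], [120, 4]), ([2], [1, 80, 28]), ([15], [20, 120]), ([3], [69, 19]), ([5], [3, 77, 60]),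
    ([], [1, 108, 42]), ([6], [1, 84, 31]), ([2], [110, 7]), ([2], [4, 96, 12]), ([8], [12, 114]),
    ([2], [36, 105]), ([8], [2, 66]), ([1], [96, 15]), ([12], [45, 89]), ([], [1, 126, 12]),
    ([], [1, 78, 10]), ([6], [1, 79, 21]), ([1], [86, 50]), ([11], [78]), ([], [43, 100]),
    ([], [32, 116]), ([1], [36, 78]), ([5], [3, 94]), ([3], [10, 121]), ([19], [7, 81]),
    ([17], [35, 70]), ([2], [101, 29]), ([2], [123, 16]), ([3], [67, 13]), ([], [3, 75]),
    ([1], [1, 82]), ([10], [2, 88, 35]), ([12], [42, 110]), ([], [24, 74])]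

/-- witnesses -/
def wit52 : List (List ℕ × List ℕ) :=
  [([8], [85, 7]), ([7], [14, 97]), ([1], [69, 29]), ([1], [1, 76, 62]), ([3], [25, 99]),
    ([6], [110, 17]), ([7], [57, 96]), ([5], [14, 118]), ([3], [63, 79]), ([9], [23, 103]),
    ([3], [2, 78]), ([], [119, 32]), ([15], [1, 77, 40]), ([1], [94, 47]), ([20], [1, 112, 59]),
    ([], [2, 112, 59]), ([1], [2, 123, 41]), ([], [1, 68, 54]), ([6], [84, 19]), ([4], [8, 107]),
    ([1], [105, 10]), ([3], [2, 126, 57]), ([5], [45, 97]), ([7], [9, 119]), ([4], [63, 123]),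
    ([6], [26, 105]), ([4], [7, 122]), ([14], [52]), ([], [1, 116, 3]), ([], [92, 32]),
    ([5], [89, 14]), ([1], [63, 113]), ([2], [22, 111]), ([], [74, 42]), ([7], [1, 79, 53]),
    ([4], [8, 70, 18]), ([3], [1, 112]), ([8], [87, 51]), ([], [94, 23]), ([3], [19, 113]),
    ([10], [15, 119]), ([1], [1, 93, 44]), ([13], [2, 71, 34]), ([2], [16, 94]), ([], [52, 88]),
    ([3], [77, 45]), ([], [10, 89]), ([5], [1, 74, 44]), ([2], [6, 88]), ([8], [44, 104]),
    ([2], [61, 89]), ([], [1, 95]), ([1], [21, 79]), ([4], [4, 119, 14]), ([], [29, 109]),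
    ([7], [1, 78, 49]), ([8], [74, 4]), ([1], [10, 82]), ([], [13, 110]), ([2], [83, 35]),
    ([], [32, 111]), ([13], [11, 76]), ([1], [1, 98]), ([10], [63, 96])]

/-- witnesses -/
def wit53 : List (List ℕ × List ℕ) :=
  [([3], [28, 71]), ([], [108, 63]), ([11], [15, 103]), ([2], [20, 80]), ([1], [37, 88]),
    ([10], [47, 89]), ([1], [26, 89]), ([], [66, 51]), ([1], [124, 59]), ([17], [10, 107]),
    ([8], [111, 38]), ([5], [5, 75]), ([3], [39, 102]), ([26], [10, 74]), ([2], [5, 93, 56]),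
    ([1], [1, 106, 52]), ([8], [68, 54]), ([1], [50, 111]), ([3], [13, 68]), ([10], [6, 111]),
    ([18], [87, 58]), ([], [49, 122]), ([2], [1, 68, 45]), ([], [12, 123]), ([5], [2, 124, 48]),
    ([], [34, 126]), ([1], [14, 109]), ([6], [3, 106, 53]), ([6], [126, 5]), ([8], [116, 3]),
    ([], [14, 106]), ([1], [21, 95]), ([7], [104, 11]), ([2], [1, 114, 51]), ([9], [4, 67]),
    ([1], [121, 24]), ([], [1, 87, 51]), ([], [1, 92, 30]), ([3], [8, 67]), ([1], [99, 11]),
    ([3], [14, 115]), ([19], [3, 67]), ([4], [28, 102]), ([6], [5, 92, 58]), ([3], [20, 114]),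
    ([7], [1, 111, 15]), ([2], [78, 11]), ([], [97, 36]), ([], [45, 104]), ([1], [1, 93, 13]),
    ([7], [1, 83, 55]), ([4], [19, 69]), ([], [50, 105]), ([2], [36, 100]), ([2], [46, 116]),
    ([6], [1, 86, 48]), ([7], [44, 105]), ([], [1, 74, 4]), ([], [70, 4]), ([2], [17, 74]),
    ([7], [55, 104]), ([1], [88, 15]), ([20], [7, 107]), ([2], [9, 75])]

/-- witnesses -/
def wit54 : List (List ℕ × List ℕ) :=
  [([5], [80, 3]), ([2], [49, 74]), ([3], [50, 120]), ([7], [30, 110]), ([3], [28, 121]),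
    ([2], [40, 75]), ([4], [66, 21]), ([4], [1, 112, 48]), ([12], [46, 77]), ([9], [45, 102]),
    ([3], [1, 75, 42]), ([], [102, 5]), ([1], [70, 62]), ([2], [10, 116]), ([2], [6, 100]),
    ([], [71, 36]), ([4], [55, 93]), ([7], [25, 89]), ([1], [2, 79, 18]), ([1], [5, 69, 60]),
    ([3], [89, 60]), ([], [9, 68, 61]), ([3], [1, 78, 28]), ([6], [1, 114, 49]), ([5], [14, 101]),
    ([1], [87, 22]), ([9], [34, 85]), ([5], [117]), ([4], [15, 90]), ([2], [1, 80, 7]),
    ([], [1, 114, 15]), ([], [118, 16]), ([], [78, 3]), ([3], [68, 57]), ([7], [114, 14]),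
    ([5], [122, 14]), ([1], [2, 68, 12]), ([5], [79, 62]), ([1], [81, 39]), ([], [1, 67, 37]),
    ([1], [49, 96]), ([], [23, 89]), ([2], [1, 104, 53]), ([], [47, 88]), ([6], [39, 77]),
    ([2], [90, 24]), ([12], [2, 101, 63]), ([1], [97]), ([3], [5, 93]), ([], [1, 109]),
    ([1], [28, 77]), ([8], [22, 105]), ([], [25, 95]), ([28], [106, 39]), ([6], [62, 97]),
    ([8], [8, 104]), ([2], [52, 80]), ([15], [31, 92]), ([1], [7, 119]), ([], [16, 110]),
    ([6], [103, 28]), ([], [58, 111]), ([3], [23, 125]), ([1], [12, 87])]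

/-- witnesses -/
def wit55 : List (List ℕ × List ℕ) :=
  [([], [105, 6]), ([4], [113, 13]), ([3], [71, 48]), ([4], [1, 88, 45]), ([9], [16, 71]),
    ([7], [61, 78]), ([], [81, 3]), ([1], [11, 107]), ([1], [60, 123]), ([2], [6, 109]),
    ([1], [4, 122]), ([4], [62, 96]), ([2], [30, 95]), ([20], [52, 102]), ([6], [70, 15]),
    ([18], [75, 23]), ([3], [77, 33]), ([], [45, 123]), ([11], [21, 124]), ([], [20, 122]),
    ([2], [16, 89]), ([5], [5, 69, 60]), ([2], [40, 88]), ([10], [18, 99]), ([1], [86, 29]),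
    ([2], [80, 10]), ([], [47, 106]), ([9], [35, 85]), ([14], [4, 119, 15]), ([], [126]),
    ([1], [1, 93, 4]), ([5], [87, 22]), ([3], [50, 89]), ([6], [24, 83]), ([], [2, 105, 50]),
    ([], [4, 69, 30]), ([1], [90, 32]), ([7], [1, 88, 22]), ([6], [16, 99]), ([1], [4, 108, 57]),
    ([1], [7, 105]), ([5], [97]), ([], [97, 43]), ([4], [1, 124, 57]), ([1], [30, 104]),
    ([3], [90, 40]), ([5], [49, 96]), ([11], [15, 121]), ([4], [79, 19]), ([2], [82, 15]),
    ([], [23, 105]), ([6], [118, 51]), ([5], [28, 77]), ([2], [3, 112, 58]), ([], [9, 104]),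
    ([3], [28, 111]), ([1], [1, 69, 46]), ([1], [79, 5]), ([8], [17, 110]), ([12], [84, 24]),
    ([4], [1, 84, 24]), ([], [119, 15]), ([], [67, 48]), ([28], [68, 10])]

/-- witnesses -/
def wit56 : List (List ℕ × List ℕ) :=
  [([11], [34, 113]), ([], [50, 123]), ([6], [8, 127]), ([], [13, 122]), ([2], [4, 78]),
    ([6], [37, 107]), ([2], [57, 79]), ([1], [116, 58]), ([], [45, 127]), ([5], [93, 50]),
    ([3], [96, 6]), ([2], [31, 99]), ([2], [22, 83]), ([13], [3, 114, 48]), ([10], [1, 74, 37]),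
    ([], [3, 107]), ([9], [1, 84]), ([4], [18, 98]), ([1], [108, 17]), ([], [1, 76, 24]),
    ([5], [110, 14]), ([], [67, 55]), ([4], [29, 82]), ([3], [1, 87]), ([1], [68, 61]),
    ([5], [101, 57]), ([4], [5, 79]), ([3], [60, 76]), ([9], [10, 68]), ([2], [88, 34]),
    ([8], [1, 79, 19]), ([6], [108, 28]), ([10], [40, 81]), ([7], [7, 110]), ([12], [14]),
    ([], [20, 104]), ([3], [4, 118, 41]), ([1], [34, 88]), ([8], [63, 96]), ([], [14, 105]),
    ([1], [3, 77, 61]), ([], [2, 76, 60]), ([], [71, 11]), ([8], [85, 33]), ([2], [21, 113]),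
    ([5], [41, 96]), ([6], [53, 104]), ([1], [79, 55]), ([4], [45, 113]), ([1], [26, 110]),
    ([], [89, 55]), ([], [88, 41]), ([13], [52, 77]), ([6], [1, 70, 31]), ([10], [1, 111, 63]),
    ([1], [53, 111]), ([], [104, 2]), ([5], [28, 119]), ([1], [9, 109]), ([13], [9, 118]),
    ([5], [18, 87]), ([2], [94, 33]), ([3], [70, 13]), ([1], [18, 95])]

/-- witnesses -/
def wit57 : List (List ℕ × List ℕ) :=
  [([2], [79, 21]), ([15], [66, 40]), ([5], [61, 110]), ([4], [20, 113]), ([5], [17, 111]),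
    ([], [1, 118, 41]), ([], [1, 124, 57]), ([3], [8, 116, 5]), ([10], [1, 92, 27]),
    ([1], [108, 62]), ([9], [42, 70]), ([4], [2, 112, 3]), ([2], [126, 49]), ([2], [84, 31]),
    ([3], [88, 40]), ([1], [1, 77, 11]), ([2], [100, 38]), ([1], [8, 126]), ([8], [76, 24]),
    ([2], [3, 114, 48]), ([], [1, 84, 24]), ([3], [67, 49]), ([1], [34, 106]), ([4], [1, 94, 33]),
    ([9], [45, 69]), ([5], [78, 22]), ([12], [41, 120]), ([3], [3, 105]), ([1], [32, 123]),
    ([9], [11, 68]), ([], [4, 96, 5]), ([], [79, 19]), ([], [9, 97]), ([13], [69, 61]),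
    ([4], [23, 83]), ([2], [6, 86]), ([1], [2, 110, 16]), ([4], [30, 99]), ([2], [9, 118]),
    ([], [62, 96]), ([], [1, 88, 45]), ([19], [2, 71, 37]), ([], [113, 13]), ([8], [78, 61]),
    ([1], [79, 48]), ([1], [4, 96, 32]), ([12], [29, 93]), ([4], [56, 79]), ([2], [42, 97]),
    ([], [14, 119]), ([3], [36, 127]), ([4], [86, 51]), ([], [4, 87]), ([3], [15, 107]),
    ([4], [1, 88, 34]), ([1], [2, 101, 53]), ([], [22, 77]), ([1], [29, 105]), ([3], [122]),
    ([9], [51]), ([2], [1, 111, 25]), ([1], [104]), ([], [57, 76]), ([6], [56, 113])]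

/-- witnesses -/
def wit58 : List (List ℕ × List ℕ) :=
  [([10], [94, 17]), ([], [1, 96, 38]), ([5], [50, 105]), ([1], [118, 49]), ([6], [75, 47]),
    ([2], [32, 84]), ([], [80, 10]), ([1], [75, 28]), ([13], [96, 13]), ([3], [42, 85]),
    ([2], [14, 69]), ([8], [1, 76, 63]), ([], [40, 88]), ([5], [1, 74, 4]), ([], [16, 89]),
    ([2], [45, 68]), ([1], [1, 66, 57]), ([1], [1, 80, 48]), ([], [30, 95]), ([6], [15, 80]),
    ([2], [63, 103]), ([4], [7, 106]), ([2], [4, 102]), ([], [6, 109]), ([15], [120, 24]),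
    ([8], [1, 123, 12]), ([2], [9, 70]), ([], [23, 110]), ([1], [9, 68, 54]), ([], [61, 111]),
    ([7], [108, 33]), ([3], [36, 102]), ([1], [3, 89]), ([10], [39, 76]), ([1], [58, 88]),
    ([9], [11, 115]), ([11], [11, 100]), ([6], [34, 117]), ([4], [2, 110, 28]), ([8], [69, 52]),
    ([10], [28, 87]), ([], [82, 15]), ([29], [84, 50]), ([21], [94, 24]), ([4], [92, 31]),
    ([], [3, 112, 58]), ([1], [2, 99, 28]), ([2], [17]), ([1], [4, 110]), ([27], [60, 111]),
    ([10], [2, 98, 51]), ([7], [61, 80]), ([2], [53, 114]), ([15], [13, 95]), ([], [8, 98, 11]),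
    ([3], [11, 67]), ([1], [9, 95]), ([2], [40, 67]), ([], [1, 117, 5]), ([], [1, 76, 20]),
    ([4], [32, 104]), ([1], [22, 109]), ([7], [86, 38]), ([8], [31, 79])]

/-- witnesses -/
def wit59 : List (List ℕ × List ℕ) :=
  [([3], [117, 20]), ([15], [16, 115]), ([4], [33, 106]), ([6], [82, 6]), ([], [1, 112, 4]),
    ([3], [94, 34]), ([7], [1, 83, 39]), ([5], [10, 83]), ([1], [114, 38]), ([2], [2, 74, 26]),
    ([], [76, 63]), ([], [69, 28]), ([4], [35, 123]), ([3], [63, 121]), ([1], [1, 116, 10]),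
    ([6], [8, 66, 42]), ([11], [59, 122]), ([], [36, 112]), ([], [49, 113]), ([2], [77, 48]),
    ([7], [12, 117]), ([1], [46, 126]), ([6], [54, 92]), ([5], [1, 94, 25]), ([], [123, 12]),
    ([16], [83, 55]), ([1], [5, 123]), ([2], [10, 80]), ([], [3, 88, 23]), ([12], [2, 98, 21]),
    ([2], [42, 81]), ([9], [9, 68]), ([5], [9, 113]), ([1], [2, 110, 28]), ([2], [19, 75]),
    ([], [89, 7]), ([11], [103, 10]), ([4], [114, 33]), ([], [68, 16]), ([3], [86, 15]),
    ([2], [47, 101]), ([7], [66, 10]), ([1], [1, 87, 50]), ([1], [92, 31]), ([3], [123, 11]),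
    ([3], [1, 82, 7]), ([6], [2, 66, 7]), ([4], [30, 105]), ([1], [83, 54]), ([6], [101, 17]),
    ([], [2, 82]), ([1], [97, 58]), ([2], [3, 74, 37]), ([], [8, 98]), ([12], [26, 75]),
    ([8], [8, 88, 15]), ([2], [1, 80, 15]), ([4], [2, 105, 51]), ([3], [58, 92]), ([1], [32, 104]),
    ([], [39, 78]), ([5], [2, 71, 31]), ([], [30, 79]), ([1], [60, 105])]

/-- witnesses -/
def wit60 : List (List ℕ × List ℕ) :=
  [([19], [25, 83]), ([3], [28, 85]), ([1], [8, 71]), ([10], [38, 121]), ([5], [1, 108, 51]),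
    ([], [1, 75, 39]), ([8], [3, 77, 60]), ([3], [50, 84]), ([1], [50, 102]), ([7], [99, 57]),
    ([], [1, 102, 43]), ([], [89, 19]), ([4], [24, 75]), ([2], [8, 79]), ([3], [30, 69]),
    ([2], [48, 78]), ([1], [26, 68]), ([14], [56, 67]), ([4], [1, 106, 49]), ([11], [98, 56]),
    ([3], [16, 102]), ([], [61, 113]), ([], [42, 112]), ([8], [3, 94]), ([4], [2, 83, 45]),
    ([3], [46, 71]), ([35], [41, 85]), ([], [123, 41]), ([16], [2, 101, 5]), ([1], [56, 85]),
    ([3], [25, 70]), ([], [90, 20]), ([], [3, 111, 3]), ([5], [32, 77]), ([14], [61, 68]),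
    ([4], [98, 21]), ([2], [51, 112]), ([], [124, 21]), ([1], [11, 66]), ([2], [37, 113]),
    ([19], [115, 46]), ([1], [4, 114]), ([3], [6]), ([18], [81, 54]), ([5], [28, 118]),
    ([1], [25, 115]), ([12], [12, 83]), ([14], [26, 85]), ([], [3, 98]), ([5], [1, 88, 56]),
    ([4], [2, 80]), ([1], [35]), ([28], [30, 113]), ([2], [102, 39]), ([13], [75, 16]),
    ([], [8, 82]), ([5], [57, 97]), ([], [41, 78]), ([10], [23, 91]), ([], [23, 79]),
    ([3], [62, 67]), ([4], [2, 67, 45]), ([2], [1, 76, 15]), ([2], [108, 11])]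

/-- witnesses -/
def wit61 : List (List ℕ × List ℕ) :=
  [([], [87, 39]), ([5], [1, 75, 24]), ([3], [5, 96, 46]), ([22], [4, 89]), ([6], [89, 60]),
    ([11], [126, 25]), ([1], [5, 118, 39]), ([], [2, 77, 60]), ([7], [1, 93, 7]),
    ([2], [2, 67, 34]), ([1], [22, 80]), ([4], [12, 81]), ([], [45, 89]), ([5], [54, 88]),
    ([], [23, 88]), ([1], [52, 81]), ([14], [37, 113]), ([6], [50, 120]), ([3], [26, 120]),
    ([], [27, 108]), ([3], [50, 121]), ([9], [4, 84]), ([], [2, 94]), ([2], [77, 39]),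
    ([], [4, 111]), ([3], [2, 112, 14]), ([1], [1, 104, 21]), ([16], [45, 113]), ([3], [114, 29]),
    ([1], [3, 68, 45]), ([], [42, 110]), ([15], [14, 69]), ([2], [1, 66, 23]), ([4], [106, 63]),
    ([1], [1, 84, 32]), ([1], [81, 33]), ([3], [55, 92]), ([13], [86, 15]), ([6], [5, 93]),
    ([17], [1, 68, 51]), ([], [1, 112, 46]), ([2], [34, 97]), ([15], [56, 66]), ([3], [6, 91]),
    ([], [110, 37]), ([12], [19, 94]), ([2], [17, 96]), ([5], [102, 4]), ([17], [67, 61]),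
    ([1], [11, 75]), ([11], [11, 125]), ([74], [49, 120]), ([], [1, 92, 58]), ([1], [19, 74]),
    ([8], [9, 82]), ([2], [63, 77]), ([2], [5, 118]), ([1], [44, 116]), ([1], [38, 100]),
    ([3], [9, 66, 42]), ([], [98, 28]), ([], [104, 13]), ([5], [1, 66, 56]), ([5], [80, 49])]

/-- witnesses -/
def wit62 : List (List ℕ × List ℕ) :=
  [([18], [1, 78, 31]), ([3], [101, 57]), ([1], [11, 70]), ([8], [6, 123]), ([], [5, 70, 63]),
    ([1], [57, 71]), ([12], [1, 70, 19]), ([], [1, 120, 39]), ([3], [94, 16]), ([1], [61, 103]),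
    ([4], [14, 124]), ([1], [6, 102]), ([5], [14, 127]), ([6], [1, 83, 54]), ([6], [75, 18]),
    ([12], [1, 96, 17]), ([], [1, 84, 20]), ([7], [1, 66, 43]), ([5], [93, 5]), ([1], [12, 69]),
    ([2], [34, 66]), ([13], [2, 69]), ([1], [47, 68]), ([2], [51, 67]), ([7], [93, 33]),
    ([1], [34, 84]), ([6], [3, 110, 28]), ([2], [42, 114]), ([], [97, 49]), ([], [1, 102, 48]),
    ([33], [1, 69]), ([1], [14, 85]), ([1], [58, 66]), ([], [22, 97]), ([4], [87, 56]),
    ([1], [42, 67]), ([8], [63, 105]), ([2], [23, 69]), ([], [34, 96]), ([9], [15, 115]),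
    ([3], [3, 77]), ([12], [1, 114, 6]), ([25], [5, 78, 31]), ([1], [55, 114]), ([19], [9, 115]),
    ([], [98, 51]), ([3], [46, 76]), ([], [3, 111, 24]), ([7], [5, 94, 34]), ([2], [33, 71]),
    ([4], [16, 121]), ([], [30, 87]), ([1], [19]), ([5], [100, 46]), ([], [17, 119]),
    ([6], [105, 7]), ([18], [45, 92]), ([], [13, 77]), ([7], [58, 121]), ([2], [24, 102]),
    ([7], [23, 120]), ([5], [116, 12]), ([4], [1, 71, 18]), ([], [37, 76])]

/-- witnesses -/
def wit63 : List (List ℕ × List ℕ) :=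
  [([], [61, 122]), ([5], [106, 33]), ([], [7, 123]), ([20], [53, 96]), ([3], [33, 122]),
    ([8], [4, 70, 63]), ([1], [93, 57]), ([6], [4, 94, 45]), ([], [44, 126]), ([14], [31, 91]),
    ([3], [40, 107]), ([1], [31, 81]), ([9], [44, 70]), ([3], [127]), ([1], [60, 80]),
    ([], [5, 106]), ([4], [1, 94, 35]), ([], [1, 83, 22]), ([22], [36, 81]), ([3], [1, 67, 54]),
    ([7], [76, 53]), ([3], [1, 114, 7]), ([11], [4, 108, 57]), ([], [80, 58]), ([2], [104, 53]),
    ([1], [2, 83, 56]), ([7], [32, 120]), ([4], [31, 121]), ([5], [38, 113]), ([4], [49, 120]),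
    ([1], [94, 39]), ([2], [116, 24]), ([8], [23, 97]), ([], [34, 104]), ([3], [34, 105]),
    ([10], [97, 4]), ([2], [1, 126, 29]), ([], [62, 105]), ([1], [1, 94, 26]), ([1], [105, 37]),
    ([2], [80, 7]), ([9], [8, 67]), ([1], [1, 77, 51]), ([25], [1, 105, 2]), ([], [94, 28]),
    ([3], [69, 55]), ([3], [1, 74, 5]), ([], [2, 83, 54]), ([], [1, 116, 46]), ([], [1, 120, 15]),
    ([1], [35, 75]), ([40], [8, 116]), ([74], [43, 89]), ([11], [11, 107]), ([1], [57, 74]),
    ([8], [16, 119]), ([1], [5, 116]), ([5], [16, 82]), ([7], [71, 59]), ([1], [8, 100]),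
    ([2], [11, 116]), ([4], [1, 110, 43]), ([5], [30, 98]), ([], [110, 28])]

/-- all witnesses -/
def wits : List (List (List ℕ × List ℕ)) := [wit0, wit1, wit2, wit3, wit4, wit5, wit6, wit7, wit8, wit9, wit10, wit11, wit12, wit13, wit14, wit15, wit16, wit17, wit18, wit19, wit20, wit21, wit22, wit23, wit24, wit25, wit26, wit27, wit28, wit29, wit30, wit31, wit32, wit33, wit34, wit35, wit36, wit37, wit38, wit39, wit40, wit41, wit42, wit43, wit44, wit45, wit46, wit47, wit48, wit49, wit50, wit51, wit52, wit53, wit54, wit55, wit56, wit57, wit58, wit59, wit60, wit61, wit62, wit63]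

end CfsgLib.ThompsonF42.Eight
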