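import Cfsg.Agent.Lib.KnownB.ThompsonF42.Eight.Sem
import Cfsg.Agent.Lib.KnownB.ThompsonF42.Eight.Chk0
import Cfsg.Agent.Lib.KnownB.ThompsonF42.Eight.Chk1
import Cfsg.Agent.Lib.KnownB.ThompsonF42.Eight.Chk2
import Cfsg.Agent.Lib.KnownB.ThompsonF42.Eight.Chk3

/-!
For eight elements: a central element of a Levi subgroup times an element of order five in it.
-/

set_option autoImplicit false
set_option maxRecDepth 100000

namespace CfsgLib.ThompsonF42.Eight

open Cfsg.Lie Matrix CfsgLib.Chev CfsgLib.Chev.OrdList CfsgLib.Thompson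
open CfsgLib.Chev.F42 (xx W quad ix)

variable {K : Type*} [Field K] [CharP K 2] {σ : K →+* K} {g : K}

local notation "g₄" => stdF4.good
local notation "G₄" => GL chevF4.Idx K

/-! ### the mirror -/

theorem sgn_tab : ∀ e ∈ ftabF42, ∀ r < 48,
    sgnW auxF4 (foldF42.flat e.word) r = 1 ∨ sgnW auxF4 (foldF42.flat e.word) r = -1 := by
  decide +kernel

theorem mirror_tab : auxF4.neg 27 = 20 ∧ auxF4.neg 25 = 22 ∧ auxF4.neg 28 = 19 ∧ auxF4.neg 30 = 17 ∧
    auxF4.neg 20 = 27 ∧ auxF4.neg 22 = 25 ∧ auxF4.neg 19 = 28 ∧ auxF4.neg 17 = 30 := by decide +kernel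

theorem wz_conj_x {r : ℕ} (hr : r < 48) (t : K) :
    wz σ * xx r t * (wz σ)⁻¹ = xx (auxF4.neg r) t := by
  obtain ⟨he, -, hneg⟩ := (exists_long σ).choose_spec
  exact F42.conj_nW ((F42.tw σ).valid.flat_letters (ftabF42_ok.letters _ he))
    (nroots_eq.symm ▸ hr) (hneg r (nroots_eq.symm ▸ hr)) (sgn_tab _ he r hr) t

theorem wz_conj_valL {n : ℕ} (hn : n < 128) :
    wz σ * valL σ g n * (wz σ)⁻¹ = valL σ g (Eight.flip n) := by
  obtain ⟨m1, m2, m3, m4, m5, m6, m7, m8⟩ := mirror_tab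
  have c4 : ∀ a b c d : G₄, wz σ * (a * b * c * d) * (wz σ)⁻¹ = (wz σ * a * (wz σ)⁻¹) *
      (wz σ * b * (wz σ)⁻¹) * (wz σ * c * (wz σ)⁻¹) * (wz σ * d * (wz σ)⁻¹) := fun a b c d => by group
  have key : ∀ a < 128, (Nat.blt (Eight.flip a) 64 = !Nat.blt a 64) ∧
      Eight.flip a / 8 % 8 = a / 8 % 8 ∧ Eight.flip a % 8 = a % 8 := by decide +kernel
  obtain ⟨e1, e2, e3⟩ := key n hn
  rw [valL, valL, e1, e2, e3]
  cases Nat.blt n 64
  · simp only [cond_false, cond_true, Bool.not_false, F42.neg_W]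
    rw [c4, wz_conj_x (by norm_num), wz_conj_x (by norm_num), wz_conj_x (by norm_num),
      wz_conj_x (by norm_num), m5, m6, m7, m8]
    rfl
  · simp only [cond_false, cond_true, Bool.not_true, F42.neg_W]
    rw [F42.W, c4, wz_conj_x (by norm_num), wz_conj_x (by norm_num), wz_conj_x (by norm_num),
      wz_conj_x (by norm_num), m1, m2, m3, m4]

theorem wz_conj_valW : ∀ {l : List ℕ}, (∀ n ∈ l, n < 128) →
    wz σ * valW σ g l * (wz σ)⁻¹ = valW σ g (l.map Eight.flip)
  | [], _ => by simp [valW]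
  | n :: l, h => by
    have ih := wz_conj_valW (l := l) fun m hm => h m (List.mem_cons_of_mem _ hm)
    simp only [valW, List.map_cons, List.prod_cons] at ih ⊢
    rw [← ih, ← wz_conj_valL (h n List.mem_cons_self)]
    group

/-! ### the Levi subgroup normalises the complements and commutes with its centre -/

theorem norm_neg : ∀ o ∈ [20, 22, 19, 17],
    (∀ r ∈ cmpP 1, pairChk chevF4 auxF4 o r (cmpP 1) = true) ∧
      ∀ r ∈ cmpN 1, pairChk chevF4 auxF4 o r (cmpN 1) = true := by decide +kernel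

theorem nor_lo {o : ℕ} (ho : o ∈ [20, 22, 19, 17]) (t : K) : Nor 1 (xG g₄ o t) := by
  constructor <;> intro z hz <;> refine conj_UL (fun r hr u => ?_) hz
  · obtain ⟨w, hw, e⟩ := pair_conj stdF4 ((norm_neg o ho).1 r hr) t u
    rw [e]; exact mul_mem (xG_mem_UL g₄ hr u) hw
  · obtain ⟨w, hw, e⟩ := pair_conj stdF4 ((norm_neg o ho).2 r hr) t u
    rw [e]; exact mul_mem (xG_mem_UL g₄ hr u) hw

theorem nor_valL (n : ℕ) : Nor 1 (valL σ g n) := by
  rw [valL]
  cases Nat.blt n 64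
  · rw [cond_false, F42.neg_W]
    exact (((nor_lo (by simp) _).mul (nor_lo (by simp) _)).mul (nor_lo (by simp) _)).mul (nor_lo (by simp) _)
  · exact (((nor_x (by decide) _).mul (nor_x (by decide) _)).mul (nor_x (by decide) _)).mul (nor_x (by decide) _)

theorem nor_valW : ∀ l : List ℕ, Nor 1 (valW σ g l)
  | [] => ⟨fun z hz => by simpa [valW] using hz, fun z hz => by simpa [valW] using hz⟩
  | n :: l => by
    simp only [valW, List.map_cons, List.prod_cons]
    exact (nor_valL n).mul (nor_valW l)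

/-- a torus element killing the roots of the Levi subgroup and no other -/
structure Cen (σ : K →+* K) (c : Fin chevF4.rank → Kˣ) : Prop where
  fix : c ∈ (F42.tw σ).thetaFix
  orb : ∀ r ∈ [25, 27, 28, 30, 20, 22, 19, 17], chi chevF4 auxF4 c r = 1
  off : ∀ r ∈ cmpP 1, chi chevF4 auxF4 c r ≠ 1

theorem Cen.comm {c : Fin chevF4.rank → Kˣ} (hc : Cen σ c) : ∀ l : List ℕ,
    Commute (tor chevF4 auxF4 c) (valW σ g l) := by
  have h1 : ∀ r ∈ [25, 27, 28, 30, 20, 22, 19, 17], ∀ t : K,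
      Commute (tor chevF4 auxF4 c) (xx r t) := by
    intro r hr t
    have hlt : ∀ r ∈ [25, 27, 28, 30, 20, 22, 19, 17], r < 48 := by decide
    have := tor_conj_xG g₄ c (nroots_eq.symm ▸ hlt r hr) t
    rw [hc.orb r hr, Units.val_one, one_mul] at this
    exact mul_inv_eq_iff_eq_mul.1 this
  intro l
  induction l with
  | nil => exact Commute.one_right _
  | cons n l ih =>
    simp only [valW, List.map_cons, List.prod_cons]
    refine Commute.mul_right ?_ ih
    rw [valL]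
    cases Nat.blt n 64
    · rw [cond_false, F42.neg_W]
      exact (((h1 _ (by simp) _).mul_right (h1 _ (by simp) _)).mul_right (h1 _ (by simp) _)).mul_right
        (h1 _ (by simp) _)
    · exact (((h1 _ (by simp) _).mul_right (h1 _ (by simp) _)).mul_right (h1 _ (by simp) _)).mul_right
        (h1 _ (by simp) _)

theorem cmp_sep : sepChk chevF4 auxF4 (cmpP 1) = true := by decide +kernel

/-- the central element fixes nothing in the upper complement -/
theorem Cen.fixed {c : Fin chevF4.rank → Kˣ} (hc : Cen σ c) {r : G₄} (hr : r ∈ RP K 1)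
    (e : tor chevF4 auxF4 c * r * (tor chevF4 auxF4 c)⁻¹ = r) : r = 1 := by
  have hsub : r ∈ UL K g₄ (chevF4.posRoots.filter fun s => (cmpP 1).contains s) :=
    UL_mono g₄ (fun s hs => List.mem_filter.2 ⟨posRoots_mem.2 ((cmp_lt 1).1 s hs).2,
      by simpa [List.contains_iff_mem] using hs⟩) hr
  obtain ⟨T, eT⟩ := exists_pw_ord stdF4 cmp_sep hsub
  rw [pw_filter] at eT
  have hn : ∀ s ∈ chevF4.posRoots, s < chevF4.nroots := fun s hs => (posRoots_mem.1 hs).1
  rw [eT, tor_conj_pw g₄ c _ hn] at e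
  have h := pw_inj stdF4 upList_posRoots e
  rw [eT]
  refine List.prod_eq_one fun y hy => ?_
  obtain ⟨s, hs, rfl⟩ := List.mem_map.1 hy
  have h0 := h s hs
  beta_reduce at h0 ⊢
  by_cases hm : (cmpP 1).contains s = true
  · rw [if_pos hm] at h0 ⊢
    have : T s = 0 := by
      by_contra hne
      exact hc.off s (List.contains_iff_mem.1 hm)
        (Units.ext (mul_right_cancel₀ hne (h0.trans (one_mul _).symm)))
    rw [this, xG_zero]
  · rw [if_neg hm, xG_zero]

theorem Cen.inv {c : Fin chevF4.rank → Kˣ} (hc : Cen σ c) : Cen σ c⁻¹ := by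
  refine ⟨inv_mem hc.fix, fun r hr => ?_, fun r hr h => hc.off r hr ?_⟩
  · rw [chi_inv, hc.orb r hr, inv_one]
  · rwa [chi_inv, inv_eq_one] at h

/-- the two complements in the fixed group -/
noncomputable def RF (σ : K →+* K) (b : Bool) : Subgroup G₄ :=
  (if b then RP K 1 else RN K 1) ⊓ (F42.tw σ).fix

theorem RN_mirror {r : G₄} (hr : r ∈ RN K 1) : wz σ * r * (wz σ)⁻¹ ∈ RP K 1 := by
  have hm : ∀ s ∈ cmpN 1, auxF4.neg s ∈ cmpP 1 ∧ s < 48 := by decide +kernel
  refine conj_UL (fun s hs t => ?_) hr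
  rw [wz_conj_x (hm s hs).2]
  exact xG_mem_UL g₄ (hm s hs).1 _

/-- elements `central * (order five in the Levi subgroup)` are fixed-point-free on the complements -/
theorem fpf_elem (hF : Fld σ g) (hi : F42.Inv2 σ) {c : Fin chevF4.rank → Kˣ} (hc : Cen σ c)
    (hc5 : Cen σ (c ^ 5)) {l : List ℕ} (hl : valW σ g l ^ 5 = 1) (b : Bool) :
    Fpf (RF σ b) (tor chevF4 auxF4 c * valW σ g l) := by
  have hxf : tor chevF4 auxF4 c * valW σ g l ∈ (F42.tw σ).fix :=
    mul_mem (tor_fix hc.fix) (valW_fix hi l)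
  have hp : (tor chevF4 auxF4 c * valW σ g l) ^ 5 = tor chevF4 auxF4 (c ^ 5) := by
    rw [(hc.comm l).mul_pow, hl, mul_one, map_pow]
  have hnor : ∀ r ∈ (if b then RP K 1 else RN K 1 : Subgroup G₄),
      tor chevF4 auxF4 c * r * (tor chevF4 auxF4 c)⁻¹ ∈ (if b then RP K 1 else RN K 1 : Subgroup G₄) := by
    intro r hr
    cases b
    · refine conj_UL (fun s hs t => ?_) hr
      rw [tor_conj_xG g₄ c (nroots_eq.symm ▸ ((cmp_lt 1).2 s hs).1)]
      exact xG_mem_UL g₄ hs _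
    · refine conj_UL (fun s hs t => ?_) hr
      rw [tor_conj_xG g₄ c (nroots_eq.symm ▸ ((cmp_lt 1).1 s hs).1)]
      exact xG_mem_UL g₄ hs _
  refine ⟨fun r hr => ⟨?_, Subgroup.mul_mem _ (Subgroup.mul_mem _ hxf hr.2) (Subgroup.inv_mem _ hxf)⟩,
    fun r hr e => ?_⟩
  · rw [show tor chevF4 auxF4 c * valW σ g l * r * (tor chevF4 auxF4 c * valW σ g l)⁻¹ =
      tor chevF4 auxF4 c * (valW σ g l * r * (valW σ g l)⁻¹) * (tor chevF4 auxF4 c)⁻¹ by group]
    refine hnor _ ?_
    cases b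
    · exact (nor_valW l).2 r hr.1
    · exact (nor_valW l).1 r hr.1
  · have h5 : Commute (tor chevF4 auxF4 (c ^ 5)) r := hp ▸ (Commute.pow_left e 5)
    have e5 : tor chevF4 auxF4 (c ^ 5) * r * (tor chevF4 auxF4 (c ^ 5))⁻¹ = r := by
      rw [h5.eq, mul_inv_cancel_right]
    cases b
    · refine conj_eq_one_iff.1 (hc5.inv.fixed (RN_mirror (σ := σ) hr.1) ?_)
      rw [map_inv, ← wz_conj_tor (σ := σ)]
      conv_rhs => rw [← e5]
      group
    · exact hc5.fixed hr.1 e5

/-! ### faithfulness on the four vectors -/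

theorem E44_letter {r : ℕ} (hr : r ∈ [25, 27, 28, 30, 20, 22, 19, 17]) (t : K) :
    (xx r t).val *ᵥ E (K := K) 44 = E 44 := by
  fin_cases hr <;> exact x_fix (by norm_num) t 44 (by decide +kernel)

theorem E44_valW : ∀ l : List ℕ, (valW σ g l).val *ᵥ E (K := K) 44 = E 44
  | [] => by simp [valW]
  | n :: l => by
    have ih := E44_valW l
    simp only [valW, List.map_cons, List.prod_cons] at ih ⊢
    rw [Units.val_mul, ← mulVec_mulVec, ih, valL]
    cases Nat.blt n 64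
    · simp only [cond_false, F42.neg_W, Units.val_mul, ← mulVec_mulVec]
      rw [E44_letter (by simp), E44_letter (by simp), E44_letter (by simp), E44_letter (by simp)]
    · simp only [cond_true, F42.W, Units.val_mul, ← mulVec_mulVec]
      rw [E44_letter (by simp), E44_letter (by simp), E44_letter (by simp), E44_letter (by simp)]

theorem LU_unique {v w v' w' : G₄} (hv : v ∈ chevF4.negUnipotent K) (hw : w ∈ chevF4.posUnipotent K)
    (hv' : v' ∈ chevF4.negUnipotent K) (hw' : w' ∈ chevF4.posUnipotent K) (e : v * w = v' * w') :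
    v = v' ∧ w = w' := by
  have e2 : v'⁻¹ * v = w' * w⁻¹ := by rw [eq_mul_inv_iff_mul_eq, mul_assoc, e, inv_mul_cancel_left]
  have hp : v'⁻¹ * v ∈ chevF4.posUnipotent K := e2 ▸ mul_mem hw' (inv_mem hw)
  have hd : v'⁻¹ * v ∈ chevF4.diagonalSubgroup K := by
    rw [← borel_inf_negBorel stdF4]
    exact ⟨pos_le_borel hp, Subgroup.mem_sup_left (mul_mem (inv_mem hv') hv)⟩
  have h1 : v'⁻¹ * v = 1 := Subgroup.mem_bot.1 ((posUnipotent_inf_diagonal (F := K) stdF4).le ⟨hp, hd⟩)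
  have := inv_mul_eq_one.1 h1
  subst this
  exact ⟨rfl, mul_left_cancel e⟩

variable [Fintype K]

/-- a word fixing the four vectors is trivial -/
theorem valW_eq_one (hF : Fld σ g) (hi : F42.Inv2 σ) {c : Fin chevF4.rank → Kˣ} (hc : Cen σ c)
    {l : List ℕ} (h : ∀ s ∈ [40, 39, 38, 36], (valW σ g l).val *ᵥ E (K := K) s = E s) :
    valW σ g l = 1 := by
  set d := valW σ g l with hd
  have hdf : d ∈ (F42.tw σ).fix := valW_fix hi l
  have c44 : ∀ x, d.val x p1 = (E (K := K) 44) x := fun x =>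
    ((colE d.val 44 x).symm.trans (congrFun (E44_valW l) x))
  have c40 : ∀ x, d.val x p2 = (E (K := K) 40) x := fun x =>
    ((colE d.val 40 x).symm.trans (congrFun (h 40 (by simp)) x))
  have ep : ∀ (s : ℕ) (p : Fin 48), (E (K := K) s) (rc p) = if p.val = s then 1 else 0 := fun s p => by
    simp [E, ev, idx_rc]
  have d11 : d.val p1 p1 = 1 := (c44 _).trans (by simp [ep])
  have dmn : mn d.val = 1 := by
    rw [mn, d11, c40, c40, c44]
    simp [ep]
  obtain ⟨t, ht, t0, t1, v, hv, w, hw, e⟩ := cell_of_corner hdf (by rw [d11]; exact one_ne_zero)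
    (by rw [dmn]; exact one_ne_zero)
  have : t = 1 := thetaFix_eq ht (one_mem _) (Units.ext (t0.trans d11)) (Units.ext (t1.trans dmn))
  subst this
  rw [map_one, mul_one] at e
  -- both factors commute with the centre
  set z := tor chevF4 auxF4 c with hz
  have hzd : z * d * z⁻¹ = d := by rw [(hc.comm l).eq, mul_inv_cancel_right]
  obtain ⟨ev', ew'⟩ := LU_unique (tor_conj_LT hc.fix hv).1 (tor_conj_UT hc.fix hw).1 hv.1 hw.1
    (by rw [show z * v * z⁻¹ * (z * w * z⁻¹) = z * (v * w) * z⁻¹ by group, ← e, hzd, e])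
  have split : ∀ {u : G₄}, u ∈ UT σ → ∀ {c' : Fin chevF4.rank → Kˣ}, Cen σ c' →
      tor chevF4 auxF4 c' * u * (tor chevF4 auxF4 c')⁻¹ = u → ∃ a b : K, u = W (quad σ a b) := by
    intro u hu c' hc' he
    obtain ⟨r, hr, k, hk, eu⟩ := split_UT (σ := σ) 1 hu
    obtain ⟨a, b, rfl⟩ := ((F42.class1 hi).2 k).1 hk
    have hkc : Commute (tor chevF4 auxF4 c') (W (quad σ a b)) := by
      have hh : ∀ s ∈ [25, 27, 28, 30], ∀ x : K, Commute (tor chevF4 auxF4 c') (xx s x) := by
        intro s hs x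
        have hlt : ∀ s ∈ [25, 27, 28, 30], s < 48 := by decide
        have := tor_conj_xG g₄ c' (nroots_eq.symm ▸ hlt s hs) x
        rw [hc'.orb s (by fin_cases hs <;> simp), Units.val_one, one_mul] at this
        exact mul_inv_eq_iff_eq_mul.1 this
      exact (((hh _ (by simp) _).mul_right (hh _ (by simp) _)).mul_right (hh _ (by simp) _)).mul_right
        (hh _ (by simp) _)
    refine ⟨a, b, ?_⟩
    rw [eu, show r = 1 from hc'.fixed hr ?_, one_mul]
    rw [eu] at he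
    have he2 : tor chevF4 auxF4 c' * r * (tor chevF4 auxF4 c')⁻¹ * W (quad σ a b) = r * W (quad σ a b) := by
      conv_rhs => rw [← he]
      rw [mul_assoc, mul_assoc, mul_assoc, mul_assoc, ← hkc.inv_left.eq]
    exact mul_right_cancel he2
  obtain ⟨a, b, rfl⟩ := split hw hc ew'
  obtain ⟨a', b', ev2⟩ := split (wz_conj_neg hv) hc.inv (by
    rw [map_inv, ← wz_conj_tor (σ := σ)]
    conv_rhs => rw [← ev']
    group)
  obtain ⟨s, hs, ea⟩ := hF.surj a'
  obtain ⟨u, hu, eb⟩ := hF.surj b'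
  have hn : 8 * s + u + 64 < 128 := by omega
  have ev3 : v = (F42.tw σ).nJ 1 * W (quad σ a' b') * ((F42.tw σ).nJ 1)⁻¹ := by
    have e1 : valL σ g (8 * s + u) = wz σ * v * (wz σ)⁻¹ := by
      rw [ev2, valL, show Nat.blt (8 * s + u) 64 = true by rw [Nat.blt_eq]; omega, cond_true,
        show (8 * s + u) / 8 % 8 = s by omega, show (8 * s + u) % 8 = u by omega, ea, eb]
    have e2 := wz_conj_valL (σ := σ) (g := g) hn
    rw [show Eight.flip (8 * s + u + 64) = 8 * s + u by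
      rw [Eight.flip, show Nat.blt (8 * s + u + 64) 64 = false by
        rw [← Bool.not_eq_true, Nat.blt_eq]; omega, cond_false]; omega, e1] at e2
    have e3 := mul_left_cancel (mul_right_cancel e2)
    rw [← e3, valL, show Nat.blt (8 * s + u + 64) 64 = false by
      rw [← Bool.not_eq_true, Nat.blt_eq]; omega, cond_false,
      show (8 * s + u + 64) / 8 % 8 = s by omega, show (8 * s + u + 64) % 8 = u by omega, ea, eb]
  rw [F42.neg_W] at ev3
  -- read the parameters off the four vectors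
  have hU : ∀ X Y Z V : K, (W (quad σ a b)).val *ᵥ
      (X • E (K := K) 40 + Y • E 39 + Z • E 38 + V • E 36) = _ := fun X Y Z V => W_gen _ _ _ _ X Y Z V
  have hdm : ∀ f, d.val *ᵥ f = v.val *ᵥ ((W (quad σ a b)).val *ᵥ f) := fun f => by
    rw [e, Units.val_mul, mulVec_mulVec]
  have z40 := hU 1 0 0 0
  have z39 := hU 0 1 0 0
  have z38 := hU 0 0 1 0
  simp only [one_smul, zero_smul, add_zero, zero_add, mul_zero, mul_one] at z40 z39 z38
  have d40 := h 40 (by simp)
  have d39 := h 39 (by simp)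
  have d38 := h 38 (by simp)
  rw [hdm, z40, ev3, nW_vec _ _ _ _ |>.2] at d40
  have val : ∀ (f f' : chevF4.Idx → K), f = f' → ∀ p : Fin 48, f (rc p) = f' (rc p) := fun f f' e p => by rw [e]
  have q1 := val _ _ d40 39
  have q2 := val _ _ d40 38
  simp only [Pi.add_apply, Pi.smul_apply, smul_eq_mul, ep] at q1 q2
  simp [quad] at q1 q2
  have a0 : a' = 0 := q1
  subst a0
  rw [map_zero] at q2
  simp at q2
  subst q2
  have v1 : v = 1 := by rw [ev3]; simp [quad, xx, xG_zero]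
  rw [hdm, z39, v1, Units.val_one, one_mulVec] at d39
  rw [hdm, z38, v1, Units.val_one, one_mulVec] at d38
  have q3 := val _ _ d39 40
  simp only [Pi.add_apply, Pi.smul_apply, smul_eq_mul, ep] at q3
  simp [quad] at q3
  subst q3
  have q4 := val _ _ d38 40
  simp only [Pi.add_apply, Pi.smul_apply, smul_eq_mul, ep] at q4
  simp [quad] at q4
  subst q4
  rw [e, v1, one_mul]
  simp [quad, F42.W, xx, xG_zero]

theorem row_all : ∀ p < 64, rowOK p (wits.getD p []) = true := by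
  intro p hp
  interval_cases p
  exacts [row0, row1, row2, row3, row4, row5, row6, row7, row8, row9, row10, row11, row12, row13, row14, row15,
    row16, row17, row18, row19, row20, row21, row22, row23, row24, row25, row26, row27, row28, row29, row30, row31,
    row32, row33, row34, row35, row36, row37, row38, row39, row40, row41, row42, row43, row44, row45, row46, row47,
    row48, row49, row50, row51, row52, row53, row54, row55, row56, row57, row58, row59, row60, row61, row62, row63]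

theorem eps_ok : isOne (eps ++ eps ++ eps ++ eps ++ eps) = true ∧
    isOne (eps' ++ eps' ++ eps' ++ eps' ++ eps') = true ∧
    (∀ n ∈ eps, n < 128) ∧ ∀ n ∈ eps', n < 128 := by decide +kernel

theorem pow_five {l : List ℕ} : valW σ g (l ++ l ++ l ++ l ++ l) = valW σ g l ^ 5 := by
  simp only [valW_append, pow_succ, pow_zero, one_mul]

theorem cen_tab : ∀ r : Fin 48,
    ((r.val ∈ [25, 27, 28, 30, 20, 22, 19, 17]) →
      (2 * auxF4.cart 0 r.val + 6 * auxF4.cart 1 r.val + 3 * auxF4.cart 2 r.val + auxF4.cart 3 r.val) % 7 = 0) ∧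
    (r.val ∈ cmpP 1 →
      (2 * auxF4.cart 0 r.val + 6 * auxF4.cart 1 r.val + 3 * auxF4.cart 2 r.val + auxF4.cart 3 r.val) % 7 ≠ 0 ∧
      5 * (2 * auxF4.cart 0 r.val + 6 * auxF4.cart 1 r.val + 3 * auxF4.cart 2 r.val + auxF4.cart 3 r.val) % 7 ≠ 0) := by
  decide +kernel

/-- `q = 8` -/
theorem cover_eight (hK : Fintype.card K = 2 ^ (2 * 1 + 1))
    (hσ : ∀ x, σ x = x ^ (2 ^ 1)) (hi : F42.Inv2 σ) :
    ∃ x : twistedF4 K (2 ^ 1), Odd (orderOf x) ∧
      ∀ g : twistedF4 K (2 ^ 1), g ≠ 1 →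
        ∃ u v : twistedF4 K (2 ^ 1), g = (u * x * u⁻¹) * (v * x * v⁻¹) := by
  classical
  haveI : Finite G₄ := finite_GL
  have hsq : ∀ x, σ x = x ^ 2 := fun x => by rw [hσ]; norm_num
  obtain ⟨u, hu⟩ := IsCyclic.exists_ofOrder_eq_natCard (α := Kˣ)
  rw [Nat.card_units, Nat.card_eq_fintype_card, hK] at hu
  norm_num at hu
  have hu7 : (u : K) ^ 7 = 1 := by
    rw [← Units.val_pow_eq_pow_val, ← hu, pow_orderOf_eq_one, Units.val_one]
  have hu1 : (u : K) ≠ 1 := fun e => by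
    have : u = 1 := Units.ext e
    rw [this, orderOf_one] at hu
    exact absurd hu (by norm_num)
  obtain ⟨g, hg⟩ : ∃ g : K, g ^ 3 + g + 1 = 0 := by
    have h2 : (2 : K) = 0 := CharTwo.two_eq_zero
    have e : ((u : K) - 1) * (((u : K) ^ 3 + u + 1) * ((u : K) ^ 3 + (u : K) ^ 2 + 1)) = 0 := by
      linear_combination hu7 + ((u : K) ^ 4 - (u : K) ^ 3) * h2
    rcases mul_eq_zero.1 e with h | h
    · exact absurd (sub_eq_zero.1 h) hu1
    rcases mul_eq_zero.1 h with h | h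
    · exact ⟨u, h⟩
    · exact ⟨(u : K)⁻¹, by have := u.ne_zero; field_simp; linear_combination h⟩
  have hF : Fld σ g := by
    refine ⟨hg, hsq, fun x => ?_⟩
    have hinj : ∀ a : Fin 8, ph g a.val = 0 → a = 0 := by
      have h2 : (2 : K) = 0 := CharTwo.two_eq_zero
      intro a ha
      fin_cases a <;> simp [ph] at ha <;> first | rfl | exfalso
      all_goals refine one_ne_zero (α := K) ?_
      all_goals grind
    have hb : Function.Bijective (fun a : Fin 8 => ph g a.val) := by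
      rw [Fintype.bijective_iff_injective_and_card]
      refine ⟨fun a b e => ?_, by rw [hK]; simp⟩
      obtain ⟨e1, h1⟩ := ph_add (g := g) a.isLt b.isLt
      have h0 := hinj ⟨_, h1⟩ (by rw [e1, show ph g a.val = ph g b.val from e, CharTwo.add_self_eq_zero])
      have h3 : Nat.xor a.val b.val = 0 := congrArg Fin.val h0
      exact Fin.ext (Nat.xor_eq_zero_iff.1 h3)
    obtain ⟨a, ha⟩ := hb.2 x
    exact ⟨a.val, a.isLt, ha⟩
  -- the central element
  let c : Fin chevF4.rank → Kˣ := (![u ^ 2, u ^ 6, u ^ 3, u] : Fin 4 → Kˣ)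
  have hc0 : c (ix 0) = u ^ 2 := rfl
  have hc1 : c (ix 1) = u ^ 6 := rfl
  have hc2 : c (ix 2) = u ^ 3 := rfl
  have hc3 : c (ix 3) = u := rfl
  have hcf : c ∈ (F42.tw σ).thetaFix := by
    refine (F42.thetaFix_iff hi c).2 ⟨?_, ?_⟩
    · rw [hc3, hc0, hsq, Units.val_pow_eq_pow_val]
    · rw [hc2, hc1, hsq, ← Units.val_pow_eq_pow_val, ← pow_mul]
  have hchi : ∀ r, chi chevF4 auxF4 c r =
      u ^ (2 * auxF4.cart 0 r + 6 * auxF4.cart 1 r + 3 * auxF4.cart 2 r + auxF4.cart 3 r) := by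
    intro r
    show ∏ i : Fin 4, c (ix i) ^ auxF4.cart i.val r = _
    rw [Fin.prod_univ_four, hc0, hc1, hc2, hc3]
    simp only [← zpow_natCast, ← _root_.zpow_mul, ← _root_.zpow_add, Fin.val_zero, Fin.val_one, Fin.val_two,
      show ((3 : Fin 4) : ℕ) = 3 from rfl]
    norm_num
  have hone : ∀ n : ℤ, u ^ n = 1 ↔ n % 7 = 0 := fun n => by
    rw [← orderOf_dvd_iff_zpow_eq_one, hu, ← Int.dvd_iff_emod_eq_zero]; norm_num
  have hlt : ∀ r ∈ [25, 27, 28, 30, 20, 22, 19, 17], r < 48 := by decide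
  have hC : Cen σ c := by
    refine ⟨hcf, fun r hr => ?_, fun r hr => ?_⟩
    · rw [hchi, hone]; exact (cen_tab ⟨r, hlt r hr⟩).1 hr
    · rw [hchi, ne_eq, hone]; exact ((cen_tab ⟨r, ((cmp_lt 1).1 r hr).1⟩).2 hr).1
  have hchi5 : ∀ r, chi chevF4 auxF4 (c ^ 5) r = chi chevF4 auxF4 c r ^ 5 := fun r => by
    simp only [pow_succ, pow_zero, chi_mul, chi_one]
  have hC5 : Cen σ (c ^ 5) := by
    refine ⟨pow_mem hcf 5, fun r hr => ?_, fun r hr => ?_⟩
    · rw [hchi5, hC.orb r hr, one_pow]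
    · rw [hchi5, hchi, ← zpow_natCast, ← _root_.zpow_mul, ne_eq, hone, mul_comm]
      exact ((cen_tab ⟨r, ((cmp_lt 1).1 r hr).1⟩).2 hr).2
  obtain ⟨ok5, ok5', he, he'⟩ := eps_ok
  set E5 := valW σ g eps with hE5
  have hE : E5 ^ 5 = 1 := pow_five.symm.trans (valW_eq_one hF hi hC (isOne_spec hF ok5))
  have hE' : valW σ g eps' ^ 5 = 1 := pow_five.symm.trans (valW_eq_one hF hi hC (isOne_spec hF ok5'))
  set x : G₄ := tor chevF4 auxF4 c * E5 with hx
  have hxf : x ∈ (F42.tw σ).fix := mul_mem (tor_fix hcf) (valW_fix hi _)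
  have hwx : wz σ * x * (wz σ)⁻¹ = tor chevF4 auxF4 c⁻¹ * valW σ g eps' := by
    rw [hx, hE5, show wz σ * (tor chevF4 auxF4 c * valW σ g eps) * (wz σ)⁻¹ =
      (wz σ * tor chevF4 auxF4 c * (wz σ)⁻¹) * (wz σ * valW σ g eps * (wz σ)⁻¹) by group,
      wz_conj_tor, wz_conj_valW he, map_inv]
    rfl
  have hC5i : Cen σ (c⁻¹ ^ 5) := inv_pow c 5 ▸ hC5.inv
  refine finish hσ hi hxf (n := 35) (by decide) ?_ fun y hy _ => ?_
  · rw [hx, (hC.comm eps).mul_pow, pow_mul E5 5 7, hE, one_pow, mul_one, ← map_pow]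
    have hu35 : ∀ i : Fin chevF4.rank, c i ^ 35 = 1 := fun i => by
      have h7 : ∀ a : Kˣ, a ^ 7 = 1 := fun a => by
        have := pow_card_eq_one (x := a)
        rwa [Fintype.card_units, hK] at this
      rw [pow_mul (c i) 5 7]; exact h7 _
    rw [show c ^ 35 = 1 from funext hu35, map_one]
  have h8 : 8 ≤ Fintype.card K := by rw [hK]; norm_num
  obtain ⟨x0, hx0, v, hv, w, hw, e⟩ := exists_vw hi h8 hy
  obtain ⟨r, hr, k, hk, ew⟩ := split_UT (σ := σ) 1 hw
  obtain ⟨r', hr', k', hk', ev⟩ := split_UT (σ := σ) 1 (wz_conj_neg (inv_mem hv))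
  obtain ⟨a, b, rfl⟩ := ((F42.class1 hi).2 k).1 hk
  obtain ⟨a', b', rfl⟩ := ((F42.class1 hi).2 k').1 hk'
  obtain ⟨s, hs, rfl⟩ := hF.surj a
  obtain ⟨t, ht, rfl⟩ := hF.surj b
  obtain ⟨s', hs', rfl⟩ := hF.surj a'
  obtain ⟨t', ht', rfl⟩ := hF.surj b'
  have hval : ∀ s t, s < 8 → t < 8 → W (quad σ (ph g s) (ph g t)) = valL σ g (8 * s + t) := by
    intro s t hs ht
    rw [valL, show Nat.blt (8 * s + t) 64 = true by rw [Nat.blt_eq]; omega, cond_true,
      show (8 * s + t) / 8 % 8 = s by omega, show (8 * s + t) % 8 = t by omega]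
  rw [hval s t hs ht] at ew
  rw [hval s' t' hs' ht'] at ev
  -- the lower factor
  set q := 8 * s + t with hq
  set p := linv (8 * s' + t') with hp
  have hp' : linv (8 * s' + t') < 64 := by
    have : ∀ n < 64, linv n < 64 := by decide +kernel
    exact this _ (by omega)
  have ev1 : wz σ * v * (wz σ)⁻¹ = (valL σ g (8 * s' + t'))⁻¹ * r'⁻¹ := by
    have := congrArg (·⁻¹) ev
    simp only [_root_.mul_inv_rev, inv_inv, mul_assoc] at this ⊢
    exact this
  have ev2 : v = valW σ g [p + 64] * ((wz σ)⁻¹ * r'⁻¹ * wz σ) := by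
    have e1 : wz σ * valW σ g [p + 64] * (wz σ)⁻¹ = (valL σ g (8 * s' + t'))⁻¹ := by
      rw [wz_conj_valW (by simp; omega), hp, ← valL_inv hF hi (by omega)]
      simp [valW, Eight.flip, show Nat.blt (linv (8 * s' + t') + 64) 64 = false by
        rw [← Bool.not_eq_true, Nat.blt_eq]; omega]
    rw [← e1] at ev1
    have := congrArg (fun a => (wz σ)⁻¹ * a * wz σ) ev1
    simp only [mul_assoc, inv_mul_cancel_left, inv_mul_cancel, mul_one] at this ⊢
    exact this
  have hrN : (wz σ)⁻¹ * r'⁻¹ * wz σ ∈ RN K 1 := RN_of_mirror (σ := σ) 1 (by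
    rw [show wz σ * ((wz σ)⁻¹ * r'⁻¹ * wz σ) * (wz σ)⁻¹ = r'⁻¹ by group]; exact inv_mem hr')
  set rn := (wz σ)⁻¹ * r'⁻¹ * wz σ with hrn
  have hpf : valW σ g [p + 64] ∈ (F42.tw σ).fix := valW_fix hi _
  have hqf : valW σ g [q] ∈ (F42.tw σ).fix := valW_fix hi _
  have hrnf : rn ∈ (F42.tw σ).fix := by
    have := mul_mem (inv_mem hpf) hv.2
    rwa [ev2, inv_mul_cancel_left] at this
  have hrf : r ∈ (F42.tw σ).fix := by
    have := Subgroup.mul_mem _ hw.2 (Subgroup.inv_mem _ (valL_fix (σ := σ) (g := g) hi q))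
    rwa [ew, mul_inv_cancel_right] at this
  set P := valW σ g [p + 64] with hP
  set Q := valW σ g [q] with hQ
  have ew2 : w = Q * (Q⁻¹ * r * Q) := by
    rw [show Q * (Q⁻¹ * r * Q) = r * Q by group, ew, hQ]
    simp [valW]
  have hR1 : P * rn * P⁻¹ ∈ RF σ false :=
    ⟨(nor_valW [p + 64]).2 rn hrN, Subgroup.mul_mem _ (Subgroup.mul_mem _ hpf hrnf) (Subgroup.inv_mem _ hpf)⟩
  have hqn : Q⁻¹ = valW σ g (winv [q]) := (valW_inv hF hi (by simp; omega)).symm
  have hR2 : Q⁻¹ * r * Q ∈ RF σ true := by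
    refine ⟨?_, Subgroup.mul_mem _ (Subgroup.mul_mem _ (Subgroup.inv_mem _ hqf) hrf) hqf⟩
    have := (nor_valW (σ := σ) (g := g) (winv [q])).1 r hr
    rwa [← hqn, inv_inv] at this
  -- the witness
  have hrow := row_all p hp'
  simp only [rowOK, List.all_eq_true, List.mem_range, Bool.and_eq_true, Nat.blt_eq] at hrow
  obtain ⟨⟨hk1, hk2⟩, hone'⟩ := hrow q (by omega)
  generalize (wits.getD p []).getD q ([], []) = kk at hk1 hk2 hone'
  obtain ⟨k1, k2⟩ := kk
  have heq := valW_eq_one hF hi hC (isOne_spec hF hone')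
  set K1 := valW σ g k1 with hK1
  set K2 := valW σ g k2 with hK2
  rw [witW, valW_append, valW_append, valW_append, valW_append, valW_append, valW_append,
    valW_inv hF hi hk1, valW_inv hF hi hk2, valW_inv hF hi (by simp; omega), ← hE5, ← hK1, ← hK2,
    show valW σ g [p + 64, q] = P * Q by simp [hP, hQ, valW]] at heq
  have hPQ : P * Q = K1 * E5 * K1⁻¹ * K2 * valW σ g eps' * K2⁻¹ := (inv_mul_eq_one.1 heq)
  have c1 := (hC.comm (g := g) k1).eq
  have c2 := (hC.comm (g := g) k2).eq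
  have ce := (hC.comm (g := g) eps).eq
  have hab : (K1 * x * K1⁻¹) * (K2 * (wz σ * x * (wz σ)⁻¹) * K2⁻¹) = P * Q := by
    have hcomm : Commute (tor chevF4 auxF4 c) (K1 * E5 * K1⁻¹) :=
      ((hC.comm k1).mul_right (hC.comm eps)).mul_right (hC.comm k1).inv_right
    have hK2c : K2 * tor chevF4 auxF4 c⁻¹ = tor chevF4 auxF4 c⁻¹ * K2 :=
      ((hC.inv.comm (g := g) k2).eq).symm
    rw [hwx, hx, hPQ, show K1 * (tor chevF4 auxF4 c * E5) * K1⁻¹ = (K1 * tor chevF4 auxF4 c) * E5 * K1⁻¹ by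
      group, ← c1, show K2 * (tor chevF4 auxF4 c⁻¹ * valW σ g eps') * K2⁻¹ =
        (K2 * tor chevF4 auxF4 c⁻¹) * valW σ g eps' * K2⁻¹ by group, hK2c, map_inv]
    rw [show tor chevF4 auxF4 c * K1 * E5 * K1⁻¹ =
      tor chevF4 auxF4 c * (K1 * E5 * K1⁻¹) by group, hcomm.eq]
    group
  have hK1f : K1 ∈ (F42.tw σ).fix := valW_fix hi _
  have hK2f : K2 ∈ (F42.tw σ).fix := valW_fix hi _
  have conj_iff : ∀ (b : Bool) (l : List ℕ), (∀ n ∈ l, n < 128) → ∀ z,
      valW σ g l * z * (valW σ g l)⁻¹ ∈ RF σ b ↔ z ∈ RF σ b := by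
    intro b l hl z
    have h1 : ∀ (l : List ℕ), ∀ z ∈ RF σ b, valW σ g l * z * (valW σ g l)⁻¹ ∈ RF σ b := by
      intro l z hz
      refine ⟨?_, Subgroup.mul_mem _ (Subgroup.mul_mem _ (valW_fix hi l) hz.2) (Subgroup.inv_mem _ (valW_fix hi l))⟩
      cases b
      · exact (nor_valW l).2 z hz.1
      · exact (nor_valW l).1 z hz.1
    refine ⟨fun h => ?_, h1 l z⟩
    have := h1 (winv l) _ h
    rw [valW_inv hF hi hl] at this
    simpa [mul_assoc] using this
  refine cover_two (X := (F42.tw σ).fix) (Rn := RF σ false) (Rp := RF σ true) inf_le_right inf_le_right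
    ((fpf_elem hF hi hC hC5 hE false).conj (conj_iff false k1 hk1))
    (((hwx ▸ fpf_elem hF hi hC.inv hC5i hE' true : Fpf (RF σ true) (wz σ * x * (wz σ)⁻¹))).conj
      (conj_iff true k2 hk2))
    ⟨K1, hK1f, rfl⟩ ⟨K2 * wz σ, mul_mem hK2f wz_fix, by rw [hK2]; group⟩ hR1 hR2 ⟨x0, hx0, ?_⟩
  rw [e, hab, ev2, ew2]
  group

end CfsgLib.ThompsonF42.Eight
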