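import Cfsg.Agent.Lib.KnownB.ThompsonF42.Eight.Code

/-!
Meaning of the codes: letters are elements of the fixed group moving four coordinate vectors.
-/

set_option autoImplicit false
set_option maxRecDepth 100000

namespace CfsgLib.ThompsonF42.Eight

open Cfsg.Lie Matrix CfsgLib.Chev
open CfsgLib.Chev.F42 (xx W quad)

variable {K : Type*} [Field K] [CharP K 2] {σ : K →+* K} {g : K}

local notation "g₄" => stdF4.good
local notation "G₄" => GL chevF4.Idx K

/-- the value of a code -/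
def ph (g : K) (a : ℕ) : K := ((a % 2 : ℕ) : K) + ((a / 2 % 2 : ℕ) : K) * g + ((a / 4 % 2 : ℕ) : K) * g ^ 2

theorem cast_mod (n : ℕ) : ((n % 2 : ℕ) : K) = n := by
  have h := congrArg (Nat.cast (R := K)) (Nat.mod_add_div n 2)
  rwa [Nat.cast_add, Nat.cast_mul, Nat.cast_ofNat, CharTwo.two_eq_zero (R := K), zero_mul, add_zero] at h

theorem mul_tab : ∀ a < 8, ∀ b < 8, mulN a b < 8 ∧
    mulN a b % 2 = (a % 2 * (b % 2) + a / 2 % 2 * (b / 4 % 2) + a / 4 % 2 * (b / 2 % 2)) % 2 ∧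
    mulN a b / 2 % 2 = (a % 2 * (b / 2 % 2) + a / 2 % 2 * (b % 2) + a / 2 % 2 * (b / 4 % 2) +
      a / 4 % 2 * (b / 2 % 2) + a / 4 % 2 * (b / 4 % 2)) % 2 ∧
    mulN a b / 4 % 2 = (a % 2 * (b / 4 % 2) + a / 2 % 2 * (b / 2 % 2) + a / 4 % 2 * (b % 2) +
      a / 4 % 2 * (b / 4 % 2)) % 2 := by decide +kernel

theorem add_tab : ∀ a < 8, ∀ b < 8, addN a b < 8 ∧ addN a b % 2 = (a % 2 + b % 2) % 2 ∧
    addN a b / 2 % 2 = (a / 2 % 2 + b / 2 % 2) % 2 ∧
    addN a b / 4 % 2 = (a / 4 % 2 + b / 4 % 2) % 2 := by decide +kernel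

theorem ph_mul (hg : g ^ 3 + g + 1 = 0) {a b : ℕ} (ha : a < 8) (hb : b < 8) :
    ph g (mulN a b) = ph g a * ph g b ∧ mulN a b < 8 := by
  obtain ⟨h0, h1, h2, h3⟩ := mul_tab a ha b hb
  refine ⟨?_, h0⟩
  simp only [ph, h1, h2, h3]
  rw [cast_mod (K := K) (_ + _), cast_mod (K := K) (_ + _), cast_mod (K := K) (_ + _)]
  push_cast
  generalize ((a % 2 : ℕ) : K) = a0
  generalize ((a / 2 % 2 : ℕ) : K) = a1
  generalize ((a / 4 % 2 : ℕ) : K) = a2
  generalize ((b % 2 : ℕ) : K) = b0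
  generalize ((b / 2 % 2 : ℕ) : K) = b1
  generalize ((b / 4 % 2 : ℕ) : K) = b2
  linear_combination (a1 * b2 + a2 * b1 + a2 * b2 * g) * (-hg) +
    (a1 * b2 + a2 * b1 + a1 * b2 * g + a2 * b1 * g + a2 * b2 * g + a2 * b2 * g ^ 2) *
      (CharTwo.two_eq_zero (R := K))

theorem ph_add {a b : ℕ} (ha : a < 8) (hb : b < 8) :
    ph g (addN a b) = ph g a + ph g b ∧ addN a b < 8 := by
  obtain ⟨h0, h1, h2, h3⟩ := add_tab a ha b hb
  refine ⟨?_, h0⟩
  simp only [ph, h1, h2, h3]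
  rw [cast_mod (K := K) (_ + _), cast_mod (K := K) (_ + _), cast_mod (K := K) (_ + _)]
  push_cast
  ring

omit [CharP K 2] in
theorem ph_zero : ph g 0 = 0 := by simp [ph]
omit [CharP K 2] in
theorem ph_one : ph g 1 = 1 := by simp [ph]

/-- what is assumed of the field -/
structure Fld (σ : K →+* K) (g : K) : Prop where
  root : g ^ 3 + g + 1 = 0
  sq : ∀ x, σ x = x ^ 2
  surj : ∀ x : K, ∃ a < 8, ph g a = x

/-- the element of a letter -/
noncomputable def valL (σ : K →+* K) (g : K) (n : ℕ) : G₄ :=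
  bif Nat.blt n 64 then W (quad σ (ph g (n / 8 % 8)) (ph g (n % 8)))
  else (F42.tw σ).nJ 1 * W (quad σ (ph g (n / 8 % 8)) (ph g (n % 8))) * ((F42.tw σ).nJ 1)⁻¹

/-- the element of a word -/
noncomputable def valW (σ : K →+* K) (g : K) (l : List ℕ) : G₄ := (l.map (valL σ g)).prod

theorem valW_append (l l' : List ℕ) : valW σ g (l ++ l') = valW σ g l * valW σ g l' := by
  simp [valW]

theorem valL_fix (hi : F42.Inv2 σ) (n : ℕ) : valL σ g n ∈ (F42.tw σ).fix := by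
  rw [valL]
  cases Nat.blt n 64
  · exact mul_mem (mul_mem ((F42.tw σ).nJ_fix (by decide)) (F42.W_quad_fix hi _ _))
      (inv_mem ((F42.tw σ).nJ_fix (by decide)))
  · exact F42.W_quad_fix hi _ _

theorem valW_fix (hi : F42.Inv2 σ) (l : List ℕ) : valW σ g l ∈ (F42.tw σ).fix :=
  list_prod_mem fun y hy => by
    obtain ⟨n, -, rfl⟩ := List.mem_map.1 hy
    exact valL_fix hi n

theorem qN_spec (hF : Fld σ g) (n : ℕ) :
    quad σ (ph g (n / 8 % 8)) (ph g (n % 8)) =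
      (ph g (qN n).1, ph g (qN n).2.1, ph g (qN n).2.2.1, ph g (qN n).2.2.2) ∧
    (qN n).1 < 8 ∧ (qN n).2.1 < 8 ∧ (qN n).2.2.1 < 8 ∧ (qN n).2.2.2 < 8 := by
  have ht : n / 8 % 8 < 8 := Nat.mod_lt _ (by norm_num)
  have hu : n % 8 < 8 := Nat.mod_lt _ (by norm_num)
  have hs : ∀ {a : ℕ}, a < 8 → σ (ph g a) = ph g (sqN a) ∧ sqN a < 8 := fun {a} ha => by
    obtain ⟨e, h⟩ := ph_mul hF.root ha ha
    exact ⟨by rw [hF.sq, sqN, e, sq], h⟩
  obtain ⟨e1, h1⟩ := hs ht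
  obtain ⟨e2, h2⟩ := ph_mul hF.root h1 ht
  obtain ⟨e3, h3⟩ := ph_add (g := g) h2 hu
  obtain ⟨e4, h4⟩ := hs hu
  obtain ⟨e5, h5⟩ := ph_mul hF.root h4 h4
  refine ⟨?_, h1, ht, h3, h5⟩
  simp only [quad, qN]
  rw [e1, e4, e3, e2, show sqN (sqN (n % 8)) = mulN (sqN (n % 8)) (sqN (n % 8)) from rfl, e5, ← sq]

/-- the vector of four codes -/
noncomputable def vec (g : K) : V4 → chevF4.Idx → K
  | (x, y, z, w) => ph g x • E 40 + ph g y • E 39 + ph g z • E 38 + ph g w • E 36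

/-- all components are codes -/
def Small : V4 → Prop
  | (x, y, z, w) => x < 8 ∧ y < 8 ∧ z < 8 ∧ w < 8

theorem W_gen (a b c d X Y Z V : K) :
    (W (a, b, c, d)).val *ᵥ (X • E (K := K) 40 + Y • E 39 + Z • E 38 + V • E 36) =
      (X + d * V + c * Z + a * (Y + c * V + b * Z)) • E 40 + (Y + c * V + b * Z) • E 39 +
        (Z + a * V) • E 38 + V • E 36 := by
  have h1 := W_vec (K := K) a b c d Y Z V
  have h0 := W_vec (K := K) a b c d 0 0 0
  simp only [zero_smul, add_zero, mul_zero, zero_add, one_smul] at h0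
  rw [show X • E (K := K) 40 + Y • E 39 + Z • E 38 + V • E 36 =
    (X - 1) • E 40 + (E 40 + Y • E 39 + Z • E 38 + V • E 36) by module, mulVec_add, h1, mulVec_smul, h0]
  module

theorem nW_gen (a b c d X Y Z V : K) :
    (xx 20 a * xx 22 b * xx 19 c * xx 17 d).val *ᵥ (X • E (K := K) 40 + Y • E 39 + Z • E 38 + V • E 36) =
      X • E 40 + (Y + a * X) • E 39 + (Z + c * X + b * Y) • E 38 +
        (V + d * X + c * Y + a * (Z + c * X + b * Y)) • E 36 := by
  have p1 : (xx 17 d).val *ᵥ E (K := K) 40 = E 40 + d • E 36 := x_step (by norm_num) d 40 36 (by decide +kernel)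
  have p2 : (xx 17 d).val *ᵥ E (K := K) 39 = E 39 := x_fix (by norm_num) d 39 (by decide +kernel)
  have p3 : (xx 17 d).val *ᵥ E (K := K) 38 = E 38 := x_fix (by norm_num) d 38 (by decide +kernel)
  have p4 : (xx 17 d).val *ᵥ E (K := K) 36 = E 36 := x_fix (by norm_num) d 36 (by decide +kernel)
  have q1 : (xx 19 c).val *ᵥ E (K := K) 40 = E 40 + c • E 38 := x_step (by norm_num) c 40 38 (by decide +kernel)
  have q2 : (xx 19 c).val *ᵥ E (K := K) 39 = E 39 + c • E 36 := x_step (by norm_num) c 39 36 (by decide +kernel)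
  have q3 : (xx 19 c).val *ᵥ E (K := K) 38 = E 38 := x_fix (by norm_num) c 38 (by decide +kernel)
  have q4 : (xx 19 c).val *ᵥ E (K := K) 36 = E 36 := x_fix (by norm_num) c 36 (by decide +kernel)
  have r1 : (xx 22 b).val *ᵥ E (K := K) 40 = E 40 := x_fix (by norm_num) b 40 (by decide +kernel)
  have r2 : (xx 22 b).val *ᵥ E (K := K) 39 = E 39 + b • E 38 := x_step (by norm_num) b 39 38 (by decide +kernel)
  have r3 : (xx 22 b).val *ᵥ E (K := K) 38 = E 38 := x_fix (by norm_num) b 38 (by decide +kernel)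
  have r4 : (xx 22 b).val *ᵥ E (K := K) 36 = E 36 := x_fix (by norm_num) b 36 (by decide +kernel)
  have s1 : (xx 20 a).val *ᵥ E (K := K) 40 = E 40 + a • E 39 := x_step (by norm_num) a 40 39 (by decide +kernel)
  have s2 : (xx 20 a).val *ᵥ E (K := K) 39 = E 39 := x_fix (by norm_num) a 39 (by decide +kernel)
  have s3 : (xx 20 a).val *ᵥ E (K := K) 38 = E 38 + a • E 36 := x_step (by norm_num) a 38 36 (by decide +kernel)
  have s4 : (xx 20 a).val *ᵥ E (K := K) 36 = E 36 := x_fix (by norm_num) a 36 (by decide +kernel)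
  simp only [Units.val_mul, ← mulVec_mulVec, p1, p2, p3, p4, q1, q2, q3, q4, r1, r2, r3, r4,
    s1, s2, s3, s4, mulVec_add, mulVec_smul]
  module

theorem actL_spec (hF : Fld σ g) (n : ℕ) {v : V4} (hv : Small v) :
    Small (actL n v) ∧ (valL σ g n).val *ᵥ vec g v = vec g (actL n v) := by
  obtain ⟨x, y, z, w⟩ := v
  obtain ⟨hx, hy, hz, hw⟩ := hv
  obtain ⟨eq, ha, hb, hc, hd⟩ := qN_spec hF n
  rw [valL, actL, eq]
  generalize qN n = Q at ha hb hc hd ⊢
  obtain ⟨a, b, c, d⟩ := Q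
  dsimp only at ha hb hc hd ⊢
  have M := fun {p q : ℕ} (hp : p < 8) (hq : q < 8) => ph_mul (g := g) hF.root hp hq
  have S := fun {p q : ℕ} (hp : p < 8) (hq : q < 8) => ph_add (g := g) hp hq
  cases Nat.blt n 64
  · rw [cond_false, cond_false, F42.neg_W]
    obtain ⟨e1, h1⟩ := M ha hx
    obtain ⟨e2, h2⟩ := S hy h1
    obtain ⟨e3, h3⟩ := M hc hx
    obtain ⟨e4, h4⟩ := S hz h3
    obtain ⟨e5, h5⟩ := M hb hy
    obtain ⟨e6, h6⟩ := S h4 h5
    obtain ⟨e7, h7⟩ := M hd hx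
    obtain ⟨e8, h8⟩ := S hw h7
    obtain ⟨e9, h9⟩ := M hc hy
    obtain ⟨f1, k1⟩ := S h8 h9
    obtain ⟨f2, k2⟩ := M ha h6
    obtain ⟨f3, k3⟩ := S k1 k2
    refine ⟨⟨hx, h2, h6, k3⟩, ?_⟩
    simp only [loN, vec, nW_gen]
    rw [f3, f2, f1, e9, e8, e7, e6, e5, e4, e3, e2, e1]
  · rw [cond_true, cond_true]
    obtain ⟨e1, h1⟩ := M hd hw
    obtain ⟨e2, h2⟩ := S hx h1
    obtain ⟨e3, h3⟩ := M hc hz
    obtain ⟨e4, h4⟩ := S h2 h3
    obtain ⟨e5, h5⟩ := M hc hw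
    obtain ⟨e6, h6⟩ := S hy h5
    obtain ⟨e7, h7⟩ := M hb hz
    obtain ⟨e8, h8⟩ := S h6 h7
    obtain ⟨e9, h9⟩ := M ha h8
    obtain ⟨f1, k1⟩ := S h4 h9
    obtain ⟨f2, k2⟩ := M ha hw
    obtain ⟨f3, k3⟩ := S hz k2
    refine ⟨⟨k1, h8, k3, hw⟩, ?_⟩
    simp only [upN, vec, W_gen]
    rw [f3, f2, f1, e9, e8, e7, e6, e5, e4, e3, e2, e1]

theorem actW_spec (hF : Fld σ g) : ∀ (l : List ℕ) {v : V4}, Small v →
    Small (actW l v) ∧ (valW σ g l).val *ᵥ vec g v = vec g (actW l v)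
  | [], v, hv => ⟨hv, by simp [valW, actW]⟩
  | n :: l, v, hv => by
    obtain ⟨h1, e1⟩ := actW_spec hF l hv
    obtain ⟨h2, e2⟩ := actL_spec hF n h1
    refine ⟨h2, ?_⟩
    rw [valW, List.map_cons, List.prod_cons, Units.val_mul, ← mulVec_mulVec,
      show (l.map (valL σ g)).prod = valW σ g l from rfl, e1, e2, actW]

theorem eqV_iff {v v' : V4} : eqV v v' = true ↔ v = v' := by
  obtain ⟨x, y, z, w⟩ := v
  obtain ⟨x', y', z', w'⟩ := v'
  simp [eqV, and_assoc]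

/-- a word with trivial action fixes the four coordinate vectors -/
theorem isOne_spec (hF : Fld σ g) {l : List ℕ} (h : isOne l = true) :
    ∀ s ∈ [40, 39, 38, 36], (valW σ g l).val *ᵥ E (K := K) s = E s := by
  simp only [isOne, Bool.and_eq_true, eqV_iff] at h
  obtain ⟨⟨⟨h1, h2⟩, h3⟩, h4⟩ := h
  have key : ∀ v : V4, Small v → actW l v = v → (valW σ g l).val *ᵥ vec g v = vec g v :=
    fun v hv e => by rw [(actW_spec hF l hv).2, e]
  intro s hs
  fin_cases hs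
  · simpa [vec, ph_zero, ph_one] using key _ (by simp [Small]) h1
  · simpa [vec, ph_zero, ph_one] using key _ (by simp [Small]) h2
  · simpa [vec, ph_zero, ph_one] using key _ (by simp [Small]) h3
  · simpa [vec, ph_zero, ph_one] using key _ (by simp [Small]) h4

theorem linv_tab : ∀ n < 128, linv n < 128 ∧ linv n / 8 = n / 8 ∧
    linv n % 8 = addN (n % 8) (mulN (sqN (n / 8 % 8)) (n / 8 % 8)) := by decide +kernel

theorem valL_inv (hF : Fld σ g) (hi : F42.Inv2 σ) {n : ℕ} (hn : n < 128) :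
    valL σ g (linv n) = (valL σ g n)⁻¹ := by
  obtain ⟨-, e8, em⟩ := linv_tab n hn
  have hb : Nat.blt (linv n) 64 = Nat.blt n 64 := by
    rw [Bool.eq_iff_iff]; simp only [Nat.blt_eq]; omega
  have ht : n / 8 % 8 < 8 := Nat.mod_lt _ (by norm_num)
  obtain ⟨e1, h1⟩ := ph_mul (g := g) hF.root ht ht
  obtain ⟨e2, h2⟩ := ph_mul (g := g) hF.root h1 ht
  obtain ⟨e3, -⟩ := ph_add (g := g) (Nat.mod_lt n (show 0 < 8 by norm_num)) h2
  have hu : ph g (linv n % 8) = ph g (n % 8) + σ (ph g (n / 8 % 8)) * ph g (n / 8 % 8) := by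
    rw [em, show sqN (n / 8 % 8) = mulN (n / 8 % 8) (n / 8 % 8) from rfl, e3, e2, e1, hF.sq, sq]
  have key : ∀ t u : K, W (quad σ t (u + σ t * t)) = (W (quad σ t u))⁻¹ := by
    intro t u
    refine eq_inv_of_mul_eq_one_left ?_
    rw [quad, quad, F42.W_mul]
    have h2 : (2 : K) = 0 := CharTwo.two_eq_zero
    rw [show σ t + σ t = 0 from CharTwo.add_self_eq_zero _, show t + t = 0 from CharTwo.add_self_eq_zero _,
      show σ t * t + (u + σ t * t) + (σ t * t + u) + σ t * t = 0 by linear_combination (u + 2 * (σ t * t)) * h2]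
    rw [show σ (u + σ t * t) ^ 2 + σ u ^ 2 + σ t ^ 2 * t = 0 by
      rw [map_add, map_mul, CharTwo.add_sq, mul_pow, hi t]
      linear_combination (σ u ^ 2 + σ t ^ 2 * t) * h2]
    simp [F42.W, xx, xG_zero]
  rw [valL, valL, hb, e8, hu, key]
  cases Nat.blt n 64
  · simp only [cond_false, _root_.mul_inv_rev, inv_inv, mul_assoc]
  · rfl

theorem valW_inv (hF : Fld σ g) (hi : F42.Inv2 σ) : ∀ {l : List ℕ}, (∀ n ∈ l, n < 128) →
    valW σ g (winv l) = (valW σ g l)⁻¹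
  | [], _ => by simp [valW, winv]
  | n :: l, h => by
    have ih := valW_inv hF hi (l := l) fun m hm => h m (List.mem_cons_of_mem _ hm)
    have e : winv (n :: l) = winv l ++ [linv n] := by simp [winv]
    rw [e, valW_append, ih]
    simp [valW, valL_inv hF hi (h n List.mem_cons_self)]

end CfsgLib.ThompsonF42.Eight
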